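import Groth.Agent.TameLib.Laws

/-!
# Gluing finite extensions of one-dimensional localisations
-/

set_option autoImplicit false
set_option linter.style.haveILetI false
set_option linter.unusedSectionVars false
universe u

open IsLocalRing nonZeroDivisors

noncomputable section

namespace Groth.Agent.KeyLemmaLib

variable {A : Type u} [CommRing A]

/-- The map between total rings of fractions induced by a localisation. -/
def toLocTQ (P : Ideal A) [P.IsPrime] : TameLib.TQ A →ₐ[A] TameLib.TQ (Localization.AtPrime P) :=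
  IsLocalization.liftAlgHom (M := A⁰) (f := Algebra.ofId A (TameLib.TQ (Localization.AtPrime P))) fun d => by
    show IsUnit (algebraMap A (TameLib.TQ (Localization.AtPrime P)) (d : A))
    rw [IsScalarTower.algebraMap_apply A (Localization.AtPrime P)]
    exact IsLocalization.map_units (TameLib.TQ (Localization.AtPrime P))
      (⟨_, IsLocalization.map_nonZeroDivisors_le P.primeCompl (Localization.AtPrime P) ⟨_, d.2, rfl⟩⟩ :
        (Localization.AtPrime P)⁰)

theorem toLocTQ_eq_zero (P : Ideal A) [P.IsPrime] {z : TameLib.TQ A} (hz : toLocTQ P z = 0) :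
    ∃ s ∉ P, algebraMap A (TameLib.TQ A) s * z = 0 := by
  obtain ⟨⟨z0, d⟩, hzd⟩ := IsLocalization.surj A⁰ z
  have h := congrArg (toLocTQ P) hzd
  rw [map_mul, hz, zero_mul, AlgHom.commutes,
    IsScalarTower.algebraMap_apply A (Localization.AtPrime P)] at h
  have h2 : algebraMap A (Localization.AtPrime P) z0 = 0 :=
    IsFractionRing.injective (Localization.AtPrime P) (TameLib.TQ (Localization.AtPrime P)) (by rw [← h, map_zero])
  obtain ⟨⟨s, hs⟩, hs0⟩ := (IsLocalization.map_eq_zero_iff P.primeCompl _ _).1 h2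
  refine ⟨s, hs, (IsLocalization.map_units (TameLib.TQ A) d).mul_left_eq_zero.1 ?_⟩
  rw [mul_assoc, hzd, ← map_mul]
  simp only at hs0
  rw [hs0, map_zero]

theorem exists_integral_multiple (P : Ideal A) [P.IsPrime] {x : TameLib.TQ A}
    (hx : IsIntegral (Localization.AtPrime P) (toLocTQ P x)) :
    ∃ s ∉ P, IsIntegral A (algebraMap A (TameLib.TQ A) s * x) := by
  obtain ⟨⟨m, hm⟩, f, hf, hf0⟩ :=
    IsIntegral.exists_multiple_integral_of_isLocalization P.primeCompl (toLocTQ P x) hx
  have hy : toLocTQ P (Polynomial.aeval (algebraMap A (TameLib.TQ A) m * x) f) = 0 := by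
    rw [← Polynomial.aeval_algHom_apply, map_mul, AlgHom.commutes]
    simpa [Polynomial.aeval_def, Algebra.smul_def, Submonoid.smul_def] using hf0
  obtain ⟨s, hs, hs0⟩ := toLocTQ_eq_zero P hy
  refine ⟨s * m, fun h => ((inferInstance : P.IsPrime).mem_or_mem h).elim hs hm, ?_⟩
  refine ⟨f.scaleRoots s, (Polynomial.monic_scaleRoots_iff s).2 hf, ?_⟩
  rw [map_mul, mul_assoc, Polynomial.scaleRoots_eval₂_mul, ← Polynomial.aeval_def]
  rcases Nat.eq_zero_or_pos f.natDegree with hd | hd
  · rw [hf.natDegree_eq_zero.1 hd, map_one, mul_one] at hs0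
    have : s = 0 := IsFractionRing.injective A (TameLib.TQ A) (by rw [hs0, map_zero])
    exact absurd (this ▸ P.zero_mem) hs
  · obtain ⟨k, hk⟩ := Nat.exists_eq_succ_of_ne_zero hd.ne'
    rw [hk, pow_succ, mul_assoc, hs0, mul_zero]

variable [IsNoetherianRing A] {τ : Type u} [Finite τ] (P : τ → Ideal A) [∀ j, (P j).IsPrime]
  [∀ j, Ring.KrullDimLE 1 (Localization.AtPrime (P j))]

theorem exists_extension {t : A} (ht : t ∈ A⁰) (htP : ∀ j, t ∈ P j) (hinc : ∀ i j, P i ≤ P j → i = j)
    (B : ∀ j, Subalgebra (Localization.AtPrime (P j)) (TameLib.TQ (Localization.AtPrime (P j))))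
    (hB : ∀ j, CycAlg.IsFinExt (Localization.AtPrime (P j)) (B j) (maximalIdeal (Localization.AtPrime (P j)))) :
    ∃ C : Subalgebra A (TameLib.TQ A), Module.Finite A C ∧
      (∃ N : ℕ, ∀ z : C, ∃ a : A, algebraMap A (TameLib.TQ A) (t ^ N) * z = algebraMap A (TameLib.TQ A) a) ∧
      ∃ g : ∀ j, C →ₐ[A] B j,
      ∀ j, (∀ x, g j x = 0 → ∃ s ∉ P j, algebraMap A C s * x = 0) ∧
        ∀ z, ∃ s ∉ P j, ∃ x, g j x = algebraMap A (B j) s * z := by
  classical
  haveI := Fintype.ofFinite τ
  haveI := fun j => (hB j).2.1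
  choose G hG using fun j => Module.Finite.fg_top (R := Localization.AtPrime (P j)) (M := B j)
  choose n hn using fun j => (hB j).2.2
  have htm : ∀ j, algebraMap A (Localization.AtPrime (P j)) t ∈ maximalIdeal (Localization.AtPrime (P j)) := fun j => by
    rw [← Localization.AtPrime.map_eq_maximalIdeal]
    exact Ideal.mem_map_of_mem _ (htP j)
  have key : ∀ j, ∀ g : B j, ∃ x : TameLib.TQ A, IsIntegral A x ∧
      (∃ N a, algebraMap A (TameLib.TQ A) (t ^ N) * x = algebraMap A (TameLib.TQ A) a) ∧ (∀ i, toLocTQ (P i) x ∈ B i) ∧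
      ∃ s ∉ P j, toLocTQ (P j) x = algebraMap A (TameLib.TQ (Localization.AtPrime (P j))) s * g := by
    intro j g
    obtain ⟨y', hy'⟩ := hn j _ (Ideal.pow_mem_pow (htm j) (n j)) g
    obtain ⟨⟨y, ⟨s1, hs1⟩⟩, hys⟩ := IsLocalization.surj (P j).primeCompl y'
    simp only at hys
    let x0 : TameLib.TQ A := IsLocalization.mk' (TameLib.TQ A) y (⟨t ^ n j, pow_mem ht _⟩ : A⁰)
    have hx0 : algebraMap A (TameLib.TQ A) (t ^ n j) * x0 = algebraMap A (TameLib.TQ A) y :=
      IsLocalization.mk'_spec' (TameLib.TQ A) y (⟨t ^ n j, pow_mem ht _⟩ : A⁰)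
    have hunit : ∀ i, IsUnit (algebraMap A (TameLib.TQ (Localization.AtPrime (P i))) (t ^ n j)) := fun i => by
      rw [IsScalarTower.algebraMap_apply A (Localization.AtPrime (P i))]
      exact IsLocalization.map_units (TameLib.TQ (Localization.AtPrime (P i)))
        (⟨_, IsLocalization.map_nonZeroDivisors_le (P i).primeCompl (Localization.AtPrime (P i))
          ⟨_, pow_mem ht _, rfl⟩⟩ : (Localization.AtPrime (P i))⁰)
    have hj : toLocTQ (P j) x0 = algebraMap A (TameLib.TQ (Localization.AtPrime (P j))) s1 * g := by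
      refine (hunit j).mul_left_cancel ?_
      rw [← AlgHom.commutes (toLocTQ (P j)) (t ^ n j), ← map_mul, hx0, AlgHom.commutes, AlgHom.commutes,
        IsScalarTower.algebraMap_apply A (Localization.AtPrime (P j)), ← hys, map_mul, mul_left_comm]
      have h2 := congrArg Subtype.val hy'
      simp only [Subalgebra.coe_algebraMap, SetLike.val_smul, Algebra.smul_def] at h2
      rw [h2, ← map_pow, ← IsScalarTower.algebraMap_apply, ← IsScalarTower.algebraMap_apply]
      show (algebraMap A (TameLib.TQ (Localization.AtPrime (P j))) (t ^ n j) * (g : TameLib.TQ (Localization.AtPrime (P j)))) * _ = _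
      ring
    have hr : ∀ i, ∃ r, r ∉ P j ∧ (i ≠ j → algebraMap A (Localization.AtPrime (P i)) r ∈
        Ideal.span {algebraMap A (Localization.AtPrime (P i)) (t ^ n j)}) := fun i => by
      rcases eq_or_ne i j with rfl | hij
      · exact ⟨1, fun h => (inferInstance : (P i).IsPrime).ne_top ((Ideal.eq_top_iff_one _).2 h),
          fun h => absurd rfl h⟩
      · obtain ⟨r, hr1, hr2⟩ := SetLike.not_le_iff_exists.1 fun h => hij (hinc i j h)
        haveI : IsNoetherianRing (Localization.AtPrime (P i)) :=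
          IsLocalization.isNoetherianRing (P i).primeCompl _ inferInstance
        have hreg : algebraMap A (Localization.AtPrime (P i)) (t ^ n j) ∈ (Localization.AtPrime (P i))⁰ :=
          IsLocalization.map_nonZeroDivisors_le (P i).primeCompl _ ⟨_, pow_mem ht _, rfl⟩
        haveI : IsArtinianRing (Localization.AtPrime (P i) ⧸
            Ideal.span {algebraMap A (Localization.AtPrime (P i)) (t ^ n j)}) := by
          have := isFiniteLength_quotient_span_singleton (R := Localization.AtPrime (P i)) hreg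
          rw [isFiniteLength_iff_isNoetherian_isArtinian] at this
          exact isArtinian_of_tower (Localization.AtPrime (P i)) this.2
        obtain ⟨K, hK⟩ := exists_maximalIdeal_pow_le_of_isArtinianRing_quotient
          (Ideal.span {algebraMap A (Localization.AtPrime (P i)) (t ^ n j)})
        refine ⟨r ^ K, fun h => hr2 ((inferInstance : (P j).IsPrime).mem_of_pow_mem _ h), fun _ => ?_⟩
        rw [map_pow _ r K]
        refine hK (Ideal.pow_mem_pow ?_ _)
        rw [← Localization.AtPrime.map_eq_maximalIdeal]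
        exact Ideal.mem_map_of_mem _ hr1
    choose r hr1 hr2 using hr
    let R : A := ∏ i, r i
    have hR : R ∉ P j := fun h => by
      obtain ⟨i, -, hi⟩ := (Ideal.IsPrime.prod_mem_iff).1 h
      exact hr1 i hi
    have hint : IsIntegral (Localization.AtPrime (P j)) (toLocTQ (P j) (algebraMap A _ R * x0)) := by
      rw [map_mul, AlgHom.commutes, hj, ← mul_assoc, ← map_mul,
        IsScalarTower.algebraMap_apply A (Localization.AtPrime (P j))]
      exact isIntegral_algebraMap.mul (((Algebra.IsIntegral.of_finite (Localization.AtPrime (P j)) (B j)).isIntegral g).map (B j).val)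
    obtain ⟨s, hs, hsint⟩ := exists_integral_multiple (P j) hint
    refine ⟨_, hsint, ⟨n j, s * R * y, by simp only [map_mul, ← hx0]; ring⟩, fun i => ?_, s * R * s1, fun h => ?_, ?_⟩
    · rw [map_mul, AlgHom.commutes, IsScalarTower.algebraMap_apply A (Localization.AtPrime (P i))]
      refine mul_mem (Subalgebra.algebraMap_mem _ _) ?_
      rw [map_mul, AlgHom.commutes]
      rcases eq_or_ne i j with rfl | hij
      · rw [hj, IsScalarTower.algebraMap_apply A (Localization.AtPrime (P i)) _ R,
          IsScalarTower.algebraMap_apply A (Localization.AtPrime (P i)) _ s1]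
        exact mul_mem (Subalgebra.algebraMap_mem _ _) (mul_mem (Subalgebra.algebraMap_mem _ _) g.2)
      · have hRdiv : algebraMap A (Localization.AtPrime (P i)) R ∈
            Ideal.span {algebraMap A (Localization.AtPrime (P i)) (t ^ n j)} := by
          rw [map_prod, ← Finset.mul_prod_erase _ _ (Finset.mem_univ i)]
          exact Ideal.mul_mem_right _ _ (hr2 i hij)
        obtain ⟨c, hc⟩ := Ideal.mem_span_singleton'.1 hRdiv
        rw [IsScalarTower.algebraMap_apply A (Localization.AtPrime (P i)) _ R, ← hc, map_mul,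
          ← IsScalarTower.algebraMap_apply, mul_assoc, ← AlgHom.commutes (toLocTQ (P i)) (t ^ n j), ← map_mul, hx0,
          AlgHom.commutes, IsScalarTower.algebraMap_apply A (Localization.AtPrime (P i)), ← map_mul]
        exact Subalgebra.algebraMap_mem _ _
    · rcases (inferInstance : (P j).IsPrime).mem_or_mem h with h | h
      · exact ((inferInstance : (P j).IsPrime).mem_or_mem h).elim hs hR
      · exact hs1 h
    · simp only [map_mul, AlgHom.commutes, hj]
      ring
  choose x hxint hxt hxB hxs using key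
  let S : Finset (TameLib.TQ A) := Finset.univ.biUnion fun j => (G j).image (x j)
  let C : Subalgebra A (TameLib.TQ A) := Algebra.adjoin A (S : Set (TameLib.TQ A))
  have hle : ∀ i, C ≤ ((B i).restrictScalars A).comap (toLocTQ (P i)) := fun i => Algebra.adjoin_le fun z hz => by
    obtain ⟨j, -, hj⟩ := Finset.mem_biUnion.1 (Finset.mem_coe.1 hz)
    obtain ⟨g, -, rfl⟩ := Finset.mem_image.1 hj
    exact hxB j g i
  obtain ⟨g, hg⟩ : ∃ g : ∀ i, C →ₐ[A] B i, ∀ i z, (g i z : TameLib.TQ (Localization.AtPrime (P i))) =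
      toLocTQ (P i) z :=
    ⟨fun i => ((toLocTQ (P i)).comp C.val).codRestrict ((B i).restrictScalars A) (fun z => hle i z.2),
      fun i z => rfl⟩
  have hCfin : Module.Finite A C := Module.Finite.iff_fg.2 (fg_adjoin_of_finite S.finite_toSet fun z hz => by
    obtain ⟨j, -, hj⟩ := Finset.mem_biUnion.1 (Finset.mem_coe.1 hz)
    obtain ⟨g, -, rfl⟩ := Finset.mem_image.1 hj
    exact hxint j g)
  obtain ⟨Gc, hGc⟩ := Module.Finite.fg_top (R := A) (M := C)
  let D : Subalgebra A (TameLib.TQ A) :=
    { carrier := {z | ∃ N a, algebraMap A (TameLib.TQ A) (t ^ N) * z = algebraMap A (TameLib.TQ A) a}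
      mul_mem' := by
        rintro u v ⟨N, a, ha⟩ ⟨M, b, hb⟩
        exact ⟨N + M, a * b, by rw [pow_add, map_mul, map_mul, ← ha, ← hb]; ring⟩
      add_mem' := by
        rintro u v ⟨N, a, ha⟩ ⟨M, b, hb⟩
        exact ⟨N + M, t ^ M * a + t ^ N * b, by rw [pow_add, map_add, map_mul, map_mul, map_mul, ← ha, ← hb]; ring⟩
      algebraMap_mem' := fun a => ⟨0, a, by rw [pow_zero, map_one, one_mul]⟩ }
  have hCD : C ≤ D := Algebra.adjoin_le fun z hz => by
    obtain ⟨j, -, hj⟩ := Finset.mem_biUnion.1 (Finset.mem_coe.1 hz)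
    obtain ⟨g, -, rfl⟩ := Finset.mem_image.1 hj
    exact hxt j g
  choose Nc ac hac using fun z : C => hCD z.2
  have hunif : ∀ z : C, ∃ a : A,
      algebraMap A (TameLib.TQ A) (t ^ Gc.sup Nc) * z = algebraMap A (TameLib.TQ A) a := fun z => by
    have hz : z ∈ Submodule.span A (Gc : Set C) := hGc.symm ▸ Submodule.mem_top
    induction hz using Submodule.span_induction with
    | mem w hw =>
      obtain ⟨d, hd⟩ := Nat.exists_eq_add_of_le (Finset.le_sup (f := Nc) hw)
      exact ⟨t ^ d * ac w, by rw [hd, pow_add, map_mul, map_mul, ← hac w]; ring⟩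
    | zero => exact ⟨0, by rw [ZeroMemClass.coe_zero, mul_zero, map_zero]⟩
    | add u v _ _ hu hv =>
      obtain ⟨a, ha⟩ := hu
      obtain ⟨b, hb⟩ := hv
      exact ⟨a + b, by rw [map_add, ← ha, ← hb, Subalgebra.coe_add, mul_add]⟩
    | smul c u _ hu =>
      obtain ⟨a, ha⟩ := hu
      exact ⟨c * a, by rw [map_mul, ← ha, Subalgebra.coe_smul, Algebra.smul_def]; ring⟩
  refine ⟨C, hCfin, ⟨_, hunif⟩, g, fun j => ⟨fun z hz => ?_, fun z => ?_⟩⟩
  · obtain ⟨s, hs, h0⟩ := toLocTQ_eq_zero (P j) (z := (z : TameLib.TQ A)) (by rw [← hg, hz]; rfl)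
    exact ⟨s, hs, Subtype.ext h0⟩
  · have hz : z ∈ Submodule.span (Localization.AtPrime (P j)) (G j : Set (B j)) := hG j ▸ trivial
    induction hz using Submodule.span_induction with
    | mem g' hgG =>
      obtain ⟨s, hs, hsg⟩ := hxs j g'
      exact ⟨s, hs, ⟨x j g', Algebra.subset_adjoin (Finset.mem_coe.2
        (Finset.mem_biUnion.2 ⟨j, Finset.mem_univ j, Finset.mem_image_of_mem _ hgG⟩))⟩,
        Subtype.ext ((hg _ _).trans hsg)⟩
    | zero => exact ⟨1, fun h => (inferInstance : (P j).IsPrime).ne_top ((Ideal.eq_top_iff_one _).2 h), 0,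
        by rw [map_zero, mul_zero]⟩
    | add u v _ _ hu hv =>
      obtain ⟨s, hs, a, ha⟩ := hu
      obtain ⟨s', hs', b, hb⟩ := hv
      refine ⟨s * s', fun h => ((inferInstance : (P j).IsPrime).mem_or_mem h).elim hs hs',
        algebraMap A C s' * a + algebraMap A C s * b, ?_⟩
      simp only [map_add, map_mul, AlgHom.commutes, ha, hb]
      ring
    | smul c u _ hu =>
      obtain ⟨s, hs, a, ha⟩ := hu
      obtain ⟨⟨c0, s0, hs0⟩, hc⟩ := IsLocalization.surj (P j).primeCompl c
      simp only at hc
      refine ⟨s * s0, fun h => ((inferInstance : (P j).IsPrime).mem_or_mem h).elim hs hs0,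
        algebraMap A C c0 * a, ?_⟩
      rw [map_mul, AlgHom.commutes, ha, Algebra.smul_def,
        IsScalarTower.algebraMap_apply A (Localization.AtPrime (P j)) (B j) c0, ← hc, map_mul, map_mul,
        ← IsScalarTower.algebraMap_apply]
      ring

end Groth.Agent.KeyLemmaLib
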