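import Groth.Agent.KeyLemmaLib.Local
import Groth.Agent.KeyLemmaLib.Extend

/-!
# The key lemma
-/

set_option autoImplicit false
set_option linter.style.haveILetI false
set_option linter.unusedSectionVars false
universe u

open IsLocalRing nonZeroDivisors

noncomputable section

namespace Groth.Agent.KeyLemmaLib

variable {A : Type u} [CommRing A] [IsNoetherianRing A] [IsLocalRing A]

theorem height_pos_of_mem {P : Ideal A} [P.IsPrime] {x : A} (hx : x ∈ A⁰) (hxP : x ∈ P) : P.height ≠ 0 := fun h => by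
  rw [Ideal.height_eq_zero_iff] at h
  exact Set.disjoint_left.1 (Ideal.disjoint_nonZeroDivisors_of_mem_minimalPrimes h) hxP hx

theorem finite_heightOne {x : A} (hx : x ∈ A⁰) :
    {q : PrimeSpectrum A | q.asIdeal.height = 1 ∧ x ∈ q.asIdeal}.Finite := by
  refine Set.Finite.of_finite_image (f := PrimeSpectrum.asIdeal) ((Ideal.finite_minimalPrimes_of_isNoetherianRing A
    (Ideal.span {x})).subset ?_) (Set.injOn_of_injective fun p q h => PrimeSpectrum.ext h)
  rintro _ ⟨q, ⟨hq1, hxq⟩, rfl⟩
  refine ⟨⟨q.isPrime, (Ideal.span_singleton_le_iff_mem _).2 hxq⟩, fun P hP hle => ?_⟩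
  rcases hle.lt_or_eq with hlt | heq
  · haveI := hP.1
    have h := Ideal.height_strict_mono_of_isPrime hlt
    rw [hq1, ENat.lt_one_iff_eq_zero] at h
    exact absurd h (height_pos_of_mem hx (hP.2 (Ideal.mem_span_singleton_self x)))
  · exact heq.ge

theorem height_max (hA : ringKrullDim A = 2) : (maximalIdeal A).height = 2 := by
  have := IsLocalRing.maximalIdeal_height_eq_ringKrullDim (R := A)
  rw [hA] at this
  exact WithBot.coe_inj.1 this

theorem isMaximal_of_lt (hA : ringKrullDim A = 2) {q P : Ideal A} [q.IsPrime] [P.IsPrime]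
    (hq : q.height = 1) (h : q < P) : P.IsMaximal := by
  by_contra hP
  have hPm : P < maximalIdeal A := lt_of_le_of_ne (IsLocalRing.le_maximalIdeal (Ideal.IsPrime.ne_top inferInstance))
    fun he => hP (he ▸ maximalIdeal.isMaximal A)
  have h1 := Ideal.height_strict_mono_of_isPrime h
  have h2 := Ideal.height_strict_mono_of_isPrime hPm
  have h3 := height_max hA
  rw [hq] at h1
  rw [h3] at h2
  exact absurd (Order.add_one_le_of_lt h1) (by
    rw [show (1 : ℕ∞) + 1 = 2 by norm_num]; exact h2.not_ge)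

theorem assemble (hA : ringKrullDim A = 2) {a b : A} (hab : a * b ∈ A⁰) {τ : Type u} [Fintype τ] [DecidableEq τ]
    (P : τ → Ideal A) [∀ j, (P j).IsPrime] [∀ j, Ring.KrullDimLE 1 (A ⧸ P j)]
    [∀ j, IsNoetherianRing (Localization.AtPrime (P j))] [∀ j, Ring.KrullDimLE 1 (Localization.AtPrime (P j))]
    (htP : ∀ j, a * b ∈ P j) (hinc : ∀ i j, P i ≤ P j → i = j) (hnm : ∀ j, ¬ (P j).IsMaximal)
    (hall : ∀ p : Ideal A, p.IsPrime → p.height = 1 → a * b ∈ p → ∃ j, P j = p)
    {C : Type u} [CommRing C] [Algebra A C] [Module.Finite A C]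
    (hCreg : ∀ x ∈ A⁰, algebraMap A C x ∈ C⁰) (ha : a ∈ A⁰) (hb : b ∈ A⁰)
    (B : τ → Type u) [∀ j, CommRing (B j)] [∀ j, Algebra (Localization.AtPrime (P j)) (B j)]
    [∀ j, Algebra A (B j)] [∀ j, IsScalarTower A (Localization.AtPrime (P j)) (B j)]
    [∀ j, Module.Finite (Localization.AtPrime (P j)) (B j)] [∀ j, Fintype (MaximalSpectrum (B j))]
    (g : ∀ j, C →ₐ[A] B j)
    (hg : ∀ j, (∀ x, g j x = 0 → ∃ s ∉ P j, algebraMap A C s * x = 0) ∧
      ∀ z, ∃ s ∉ P j, ∃ x, g j x = algebraMap A (B j) s * z)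
    (π : ∀ j, ∀ n : MaximalSpectrum (B j), TameLib.Loc n) (hπ : ∀ j n, π j n ∈ (TameLib.Loc n)⁰)
    (v : ∀ j, ∀ n : MaximalSpectrum (B j), Fin 2 → (TameLib.Loc n)ˣ)
    (e : ∀ j, MaximalSpectrum (B j) → Fin 2 → ℕ)
    (hve : ∀ j n k, algebraMap (Localization.AtPrime (P j)) (TameLib.Loc n)
      (algebraMap A (Localization.AtPrime (P j)) (![a, b] k)) = (v j n k : TameLib.Loc n) * π j n ^ e j n k) :
    ∑ j, CycAlg.ordFrac (A ⧸ P j) (P j).ResidueField
      (∏ n, TameLib.normF (Localization.AtPrime (P j)) n (v j n 0) (v j n 1) (e j n 0) (e j n 1) ^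
        (Ring.ord (TameLib.Loc n) (π j n)).toNat) = 0 := by
  classical
  haveI : ∀ j, IsNoetherianRing (B j) := fun j => TameLib.isNoetherianRing_of_finite (Localization.AtPrime (P j))
  haveI hdimn : ∀ (j : τ) (n : MaximalSpectrum (B j)), Ring.KrullDimLE 1 (TameLib.Loc n) := fun j n =>
    TameLib.krullDimLE_loc (Localization.AtPrime (P j)) n
  haveI : ∀ (j : τ) (n : MaximalSpectrum (B j)), IsNoetherianRing (TameLib.Loc n) := fun j n =>
    IsLocalization.isNoetherianRing n.asIdeal.primeCompl _ inferInstance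
  let Q : (Σ j : τ, MaximalSpectrum (B j)) → Ideal C := fun i => lowPrime (g i.1) i.2
  haveI hQp : ∀ i, (Q i).IsPrime := fun i => lowPrime_isPrime (g i.1) i.2
  have hequiv : ∀ i, ∃ ψ : QLoc Q i ≃+* TameLib.Loc i.2,
      ∀ x : C, ψ (algebraMap C _ x) = algebraMap (B i.1) (TameLib.Loc i.2) (g i.1 x) := fun i =>
    exists_equiv (P i.1) (g i.1) (hg i.1).1 (hg i.1).2 i.2
  choose ψ hψ using hequiv
  have hfac : ∀ i (k : Fin 2), algebraMap C (QLoc Q i) (algebraMap A C (![a, b] k)) =
      ((ψ i).symm (v i.1 i.2 k : TameLib.Loc i.2)) * (ψ i).symm (π i.1 i.2) ^ e i.1 i.2 k := fun i k => by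
    apply (ψ i).injective
    rw [hψ, map_mul, map_pow, RingEquiv.apply_symm_apply, RingEquiv.apply_symm_apply, AlgHom.commutes,
      IsScalarTower.algebraMap_apply A (Localization.AtPrime (P i.1)) (B i.1),
      ← IsScalarTower.algebraMap_apply (Localization.AtPrime (P i.1)) (B i.1) (TameLib.Loc i.2)]
    exact hve i.1 i.2 k
  haveI : Algebra.IsIntegral A C := Algebra.IsIntegral.of_finite A C
  have hQq : ∀ i, (Q i).comap (algebraMap A C) = P i.1 := fun i => comap_lowPrime (P i.1) (g i.1) i.2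
  have hmemQ : ∀ i, algebraMap A C a * algebraMap A C b ∈ Q i := fun i => by
    rw [← map_mul, ← Ideal.mem_comap, hQq]; exact htP i.1
  have hnu : ∀ i, ¬ IsUnit ((ψ i).symm (π i.1 i.2)) := fun i hu => by
    have : IsUnit (algebraMap C (QLoc Q i) (algebraMap A C (![a, b] 0) * algebraMap A C (![a, b] 1))) := by
      rw [map_mul, hfac, hfac]
      exact (((v i.1 i.2 0).isUnit.map (ψ i).symm).mul (hu.pow _)).mul
        (((v i.1 i.2 1).isUnit.map (ψ i).symm).mul (hu.pow _))
    exact (IsLocalization.AtPrime.isUnit_to_map_iff (QLoc Q i) (Q i) _).1 this (hmemQ i)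
  have hreg : ∀ i, (ψ i).symm (π i.1 i.2) ∈ (QLoc Q i)⁰ := fun i =>
    TameLib.map_mem_nonZeroDivisors_of_equiv (ψ i).symm (hπ i.1 i.2)
  haveI : IsNoetherianRing C := IsNoetherianRing.of_finite A C
  haveI : ∀ i, Ring.KrullDimLE 1 (QLoc Q i) := fun i => Ring.krullDimLE_iff.2 (by
    rw [ringKrullDim_eq_of_ringEquiv (ψ i)]; exact Ring.krullDimLE_iff.1 (hdimn i.1 i.2))
  let S : Sys (A := A) Q :=
    { π := fun i => (ψ i).symm (π i.1 i.2)
      π_mem := hreg
      π_not := hnu
      π_pow := fun i k => by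
        haveI : IsNoetherianRing (QLoc Q i) := IsLocalization.isNoetherianRing (Q i).primeCompl _ inferInstance
        haveI : IsArtinianRing (QLoc Q i ⧸ Ideal.span {(ψ i).symm (π i.1 i.2) ^ k}) := by
          have := isFiniteLength_quotient_span_singleton (R := QLoc Q i) (pow_mem (hreg i) k)
          rw [isFiniteLength_iff_isNoetherian_isArtinian] at this
          exact isArtinian_of_tower (QLoc Q i) this.2
        exact exists_maximalIdeal_pow_le_of_isArtinianRing_quotient _
      a := algebraMap A C a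
      b := algebraMap A C b
      a_mem := hCreg a ha
      b_mem := hCreg b hb
      u := fun i => Units.map ((ψ i).symm : TameLib.Loc i.2 →* QLoc Q i) (v i.1 i.2 0)
      v := fun i => Units.map ((ψ i).symm : TameLib.Loc i.2 →* QLoc Q i) (v i.1 i.2 1)
      e := fun i => e i.1 i.2 0
      f := fun i => e i.1 i.2 1
      fac_a := fun i => hfac i 0
      fac_b := fun i => hfac i 1
      mem := hmemQ
      inc := by
        rintro ⟨j, n⟩ ⟨j', n'⟩ hne hle
        apply hne
        have h2 := hQq ⟨j, n⟩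
        have h3 := hQq ⟨j', n'⟩
        obtain rfl : j = j' := hinc j j' (h2 ▸ h3 ▸ Ideal.comap_mono hle)
        rcases hle.lt_or_eq with hlt | heq
        · haveI := hQp ⟨j, n⟩
          have h := Ideal.IsIntegral.comap_lt_comap (R := A) (A := C) hlt
          rw [h2, h3] at h
          exact absurd h (lt_irrefl _)
        · exact congrArg (Sigma.mk j) (low_injective (P j) (g j) (hg j).1 (hg j).2 heq)
      cover := by
        intro R hR habR
        by_cases hRm : R.IsMaximal
        · exact Or.inl hRm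
        right
        have hp : (R.comap (algebraMap A C)).IsPrime := Ideal.comap_isPrime _ _
        have habp : a * b ∈ R.comap (algebraMap A C) := by
          show algebraMap A C (a * b) ∈ R
          rwa [map_mul]
        have hpm : ¬ (R.comap (algebraMap A C)).IsMaximal := fun h =>
          hRm (Ideal.isMaximal_of_isIntegral_of_isMaximal_comap R h)
        have hlt : R.comap (algebraMap A C) < maximalIdeal A := lt_of_le_of_ne
          (IsLocalRing.le_maximalIdeal hp.ne_top) fun he => hpm (he ▸ maximalIdeal.isMaximal A)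
        have h1 := Ideal.height_strict_mono_of_isPrime hlt
        have h3 := height_max hA
        rw [h3] at h1
        have hle1 : (R.comap (algebraMap A C)).height = 1 := by
          have h0 := height_pos_of_mem hab habp
          obtain ⟨k, hk⟩ := ENat.ne_top_iff_exists.1 h1.ne_top
          rw [← hk] at h0 h1 ⊢
          norm_cast at h0 h1 ⊢
          omega
        obtain ⟨j, hj⟩ := hall _ hp hle1 habp
        obtain ⟨n, hn⟩ := exists_low (P j) (g j) (hg j).1 (hg j).2 R hj.symm
        exact ⟨⟨j, n⟩, hn.symm⟩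
      δ := fun i x => ((Ring.ord (TameLib.Loc i.2) (π i.1 i.2)).toNat : ℤ) *
        lnorm (P i.1) i.2 (ResidueField.mapEquiv (ψ i) x)
      δ_mul := fun i x y hx hy => by
        haveI := TameLib.isLocalHom_loc (Localization.AtPrime (P i.1)) i.2
        rw [lnorm, lnorm, lnorm, map_mul, map_mul, ordFrac_mul _ (norm_ne_zero' (P i.1) i.2
          ((map_ne_zero_iff _ (ResidueField.mapEquiv (ψ i)).injective).2 hx)) (norm_ne_zero' (P i.1) i.2
          ((map_ne_zero_iff _ (ResidueField.mapEquiv (ψ i)).injective).2 hy)), mul_add]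
      δ_len := fun i r hr => by
        obtain ⟨h1, h2⟩ := lnorm_len (P i.1) (g i.1) (hg i.1).1 (hg i.1).2 i.2 (hnm i.1) (π i.1 i.2)
          (hπ i.1 i.2) (ψ i) (hψ i) r hr
        refine ⟨h1, ?_⟩
        rw [← h2, ← hψ i r]
        rfl }
  have hres : ∀ i (k : Fin 2), ResidueField.mapEquiv (ψ i)
      (residue _ ((ψ i).symm (v i.1 i.2 k : TameLib.Loc i.2))) = residue _ (v i.1 i.2 k : TameLib.Loc i.2) :=
    fun i k => congrArg (residue (TameLib.Loc i.2)) ((ψ i).apply_symm_apply _)
  refine Eq.trans (Finset.sum_congr rfl fun j _ => ?_)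
    ((Fintype.sum_sigma (fun i => (S.f i : ℤ) * S.δ i (residue _ (S.u i : QLoc Q i)) -
      (S.e i : ℤ) * S.δ i (residue _ (S.v i : QLoc Q i)))).symm.trans S.key)
  rw [ordFrac_prod (P j) _ _ fun n _ => pow_ne_zero _ (ordFrac_norm_zed (P j) n _ _ _ _).1]
  refine Finset.sum_congr rfl fun n _ => ?_
  rw [ordFrac_pow (P j) (ordFrac_norm_zed (P j) n _ _ _ _).1, (ordFrac_norm_zed (P j) n _ _ _ _).2]
  show _ = (e j n 1 : ℤ) * (_ * lnorm (P j) n (ResidueField.mapEquiv (ψ ⟨j, n⟩) (residue _ ((ψ ⟨j, n⟩).symm _)))) -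
    (e j n 0 : ℤ) * (_ * lnorm (P j) n (ResidueField.mapEquiv (ψ ⟨j, n⟩) (residue _ ((ψ ⟨j, n⟩).symm _))))
  rw [hres ⟨j, n⟩ 0, hres ⟨j, n⟩ 1]
  ring

theorem key_lemma (hA : ringKrullDim A = 2) (a b : A) (ha : a ∈ A⁰) (hb : b ∈ A⁰) :
    ∑ᶠ (q : PrimeSpectrum A) (_ : q.asIdeal.height = 1), CycAlg.ordFrac (A ⧸ q.asIdeal) q.asIdeal.ResidueField
      (CycAlg.tameSymbol (Localization.AtPrime q.asIdeal) (algebraMap A (Localization.AtPrime q.asIdeal) a)
        (algebraMap A (Localization.AtPrime q.asIdeal) b)) = 0 := by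
  classical
  have hab : a * b ∈ A⁰ := mul_mem ha hb
  let T : Finset (PrimeSpectrum A) := (finite_heightOne hab).toFinset
  have hT : ∀ q, q ∈ T ↔ q.asIdeal.height = 1 ∧ a * b ∈ q.asIdeal := fun q => Set.Finite.mem_toFinset _
  haveI hdim : ∀ q : PrimeSpectrum A, q ∈ T → Ring.KrullDimLE 1 (A ⧸ q.asIdeal) := fun q hq => by
    refine Ring.krullDimLE_one_iff_of_noZeroDivisors.2 fun I hI hIp => ?_
    haveI := hIp
    have hlt : q.asIdeal < I.comap (Ideal.Quotient.mk q.asIdeal) := by
      refine lt_of_le_of_ne (Ideal.mk_ker.ge.trans (Ideal.comap_mono bot_le)) fun he => hI ?_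
      rw [← Ideal.map_comap_of_surjective _ Ideal.Quotient.mk_surjective I, ← he]
      exact Ideal.map_quotient_self _
    haveI := isMaximal_of_lt hA ((hT q).1 hq).1 hlt
    rw [← Ideal.map_comap_of_surjective _ Ideal.Quotient.mk_surjective I]
    exact Ideal.IsMaximal.map_of_surjective_of_ker_le Ideal.Quotient.mk_surjective (Ideal.mk_ker.le.trans hlt.le)
  have hzero : ∀ q : PrimeSpectrum A, q.asIdeal.height = 1 → q ∉ T →
      CycAlg.ordFrac (A ⧸ q.asIdeal) q.asIdeal.ResidueField
        (CycAlg.tameSymbol (Localization.AtPrime q.asIdeal) (algebraMap A _ a) (algebraMap A _ b)) = 0 := by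
    intro q hq hqT
    haveI : IsNoetherianRing (Localization.AtPrime q.asIdeal) :=
      IsLocalization.isNoetherianRing q.asIdeal.primeCompl _ inferInstance
    have hmem : a * b ∉ q.asIdeal := fun h => hqT ((hT q).2 ⟨hq, h⟩)
    rw [TameLib.tameSymbol_eq_one_of_units
      (IsLocalization.map_units (Localization.AtPrime q.asIdeal)
        (⟨a, fun h => hmem (Ideal.mul_mem_right _ _ h)⟩ : q.asIdeal.primeCompl))
      (IsLocalization.map_units (Localization.AtPrime q.asIdeal)
        (⟨b, fun h => hmem (Ideal.mul_mem_left _ _ h)⟩ : q.asIdeal.primeCompl))]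
    haveI : Ring.KrullDimLE 1 (A ⧸ q.asIdeal) := by
      refine Ring.krullDimLE_one_iff_of_noZeroDivisors.2 fun I hI hIp => ?_
      haveI := hIp
      have hlt : q.asIdeal < I.comap (Ideal.Quotient.mk q.asIdeal) := by
        refine lt_of_le_of_ne (Ideal.mk_ker.ge.trans (Ideal.comap_mono bot_le)) fun he => hI ?_
        rw [← Ideal.map_comap_of_surjective _ Ideal.Quotient.mk_surjective I, ← he]
        exact Ideal.map_quotient_self _
      haveI := isMaximal_of_lt hA hq hlt
      rw [← Ideal.map_comap_of_surjective _ Ideal.Quotient.mk_surjective I]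
      exact Ideal.IsMaximal.map_of_surjective_of_ker_le Ideal.Quotient.mk_surjective (Ideal.mk_ker.le.trans hlt.le)
    exact ordFrac_one q.asIdeal
  rw [finsum_eq_sum_of_support_subset (s := T) _ (fun q hq => by
    rw [Function.mem_support] at hq
    by_contra hqT
    apply hq
    by_cases h : q.asIdeal.height = 1
    · rw [finsum_eq_if, if_pos h]; exact hzero q h hqT
    · rw [finsum_eq_if, if_neg h])]
  rw [← Finset.sum_coe_sort T]
  let P : T → Ideal A := fun j => j.1.asIdeal
  haveI hPp : ∀ j, (P j).IsPrime := fun j => j.1.isPrime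
  have hh : ∀ j, (P j).height = 1 := fun j => ((hT j.1).1 j.2).1
  have htP : ∀ j, a * b ∈ P j := fun j => ((hT j.1).1 j.2).2
  haveI : ∀ j, Ring.KrullDimLE 1 (A ⧸ P j) := fun j => hdim j.1 j.2
  haveI : ∀ j, IsNoetherianRing (Localization.AtPrime (P j)) := fun j =>
    IsLocalization.isNoetherianRing (P j).primeCompl _ inferInstance
  haveI : ∀ j, Ring.KrullDimLE 1 (Localization.AtPrime (P j)) := fun j => by
    refine Ring.krullDimLE_iff.2 ?_
    rw [IsLocalization.AtPrime.ringKrullDim_eq_height (P j) (Localization.AtPrime (P j)), hh j]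
    rfl
  have hinc : ∀ i j, P i ≤ P j → i = j := fun i j hle => by
    rcases hle.lt_or_eq with hlt | heq
    · have h := Ideal.height_strict_mono_of_isPrime hlt
      rw [hh i, hh j] at h
      exact absurd h (lt_irrefl _)
    · exact Subtype.ext (PrimeSpectrum.ext heq)
  have hnm : ∀ j, ¬ (P j).IsMaximal := fun j hj => by
    have h := IsLocalRing.maximalIdeal_height_eq_ringKrullDim (R := A)
    rw [hA, ← IsLocalRing.eq_maximalIdeal hj, hh j] at h
    exact absurd h (by norm_cast)
  have hregA : ∀ (j : T) {x : A}, x ∈ A⁰ → algebraMap A (Localization.AtPrime (P j)) x ∈ (Localization.AtPrime (P j))⁰ :=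
    fun j x hx => IsLocalization.map_nonZeroDivisors_le (P j).primeCompl _ ⟨x, hx, rfl⟩
  have hsys : ∀ j : T, ∃ (B : Subalgebra (Localization.AtPrime (P j)) (TameLib.TQ (Localization.AtPrime (P j))))
      (_ : CycAlg.IsFinExt (Localization.AtPrime (P j)) B (maximalIdeal (Localization.AtPrime (P j))))
      (π : ∀ n : MaximalSpectrum B, TameLib.Loc n) (v : ∀ n : MaximalSpectrum B, Fin 2 → (TameLib.Loc n)ˣ)
      (e : ∀ _n : MaximalSpectrum B, Fin 2 → ℕ),
      (∀ n, π n ∈ (TameLib.Loc n)⁰) ∧ ∀ n k, algebraMap (Localization.AtPrime (P j)) (TameLib.Loc n)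
        (![algebraMap A (Localization.AtPrime (P j)) a, algebraMap A (Localization.AtPrime (P j)) b] k) =
        (v n k : TameLib.Loc n) * π n ^ e n k := fun j => by
    refine TameLib.exists_system ⟨inferInstance, _, ?_, hregA j hab⟩ _
      (Fin.forall_fin_two.2 ⟨hregA j ha, hregA j hb⟩)
    rw [← Localization.AtPrime.map_eq_maximalIdeal]
    exact Ideal.mem_map_of_mem _ (htP j)
  choose B hB π v e hπ hve using hsys
  obtain ⟨C, hC, -, g, hg⟩ := exists_extension P hab htP hinc B hB
  haveI := hC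
  haveI := fun j => (hB j).2.1
  haveI : ∀ j, Finite (MaximalSpectrum (B j)) := fun j =>
    TameLib.finite_maximalSpectrum (Localization.AtPrime (P j))
  haveI : ∀ j, Fintype (MaximalSpectrum (B j)) := fun j => Fintype.ofFinite _
  have hall : ∀ p : Ideal A, p.IsPrime → p.height = 1 → a * b ∈ p → ∃ j, P j = p := fun p hp h1 h2 =>
    ⟨⟨⟨p, hp⟩, (hT _).2 ⟨h1, h2⟩⟩, rfl⟩
  have hCreg : ∀ x ∈ A⁰, algebraMap A C x ∈ C⁰ := fun x hx =>
    mem_nonZeroDivisors_iff_right.2 fun z hz => TameLib.regular_subalgebra hx C z (by rw [mul_comm]; exact hz)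
  have hve' : ∀ j n k, algebraMap (Localization.AtPrime (P j)) (TameLib.Loc n)
      (algebraMap A (Localization.AtPrime (P j)) (![a, b] k)) = (v j n k : TameLib.Loc n) * π j n ^ e j n k :=
    fun j n k => by
      rw [← hve j n k]
      fin_cases k <;> rfl
  refine Eq.trans (Finset.sum_congr rfl fun j _ => ?_)
    (assemble hA hab P htP hinc hnm hall hCreg ha hb (fun j => B j) g hg π hπ v e hve')
  rw [finsum_eq_if, if_pos (hh j)]
  refine congrArg (CycAlg.ordFrac (A ⧸ P j) (P j).ResidueField) ?_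
  exact TameLib.tameSymbol_eq_prod (hB j) (π j) (hπ j) (hregA j ha) (hregA j hb) (fun n => v j n 0) (fun n => v j n 1)
    (fun n => e j n 0) (fun n => e j n 1) (fun n => hve j n 0) (fun n => hve j n 1)

end Groth.Agent.KeyLemmaLib
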