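import Mathlib
import Groth.Agent.OrdDet.Lattice
import Groth.Agent.SopLenLib.Count

/-!
# Colengths of ideals of a finite algebra over a local ring
-/

set_option autoImplicit false
set_option linter.style.haveILetI false
set_option linter.unusedSectionVars false
universe u

open IsLocalRing nonZeroDivisors

noncomputable section

namespace Groth.Agent.KeyLemmaLib

variable (A : Type u) [CommRing A] [IsLocalRing A] [IsNoetherianRing A]
variable {C : Type u} [CommRing C] [Algebra A C]

/-- The length of `X / Y` over `A`. -/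
def colen (X Y : Ideal C) : ℕ∞ :=
  OrdDet.qlen (Submodule.restrictScalars A X) (Submodule.restrictScalars A Y)

theorem colen_add {X Y Z : Ideal C} (h₁ : Z ≤ Y) (h₂ : Y ≤ X) :
    colen A X Z = colen A Y Z + colen A X Y := OrdDet.qlen_add h₁ h₂

theorem colen_self (X : Ideal C) : colen A X X = 0 := OrdDet.qlen_self _

theorem colen_ne_top [Module.Finite A C] {X Y : Ideal C}
    (h : ∀ P : Ideal C, P.IsPrime → ¬ P.IsMaximal → ∀ x ∈ X, ∃ s : C, s ∉ P ∧ s * x ∈ Y) :
    colen A X Y ≠ ⊤ := by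
  classical
  haveI : IsNoetherianRing C := IsNoetherianRing.of_finite A C
  haveI : Algebra.IsIntegral A C := Algebra.IsIntegral.of_finite A C
  haveI : IsNoetherian A C := isNoetherian_of_isNoetherianRing_of_finite A C
  let J : Ideal C := Submodule.colon Y (X : Set C)
  have hJ : ∀ P : Ideal C, P.IsPrime → J ≤ P → P.IsMaximal := by
    intro P hP hJP
    by_contra hmax
    obtain ⟨S, hS⟩ := (IsNoetherian.noetherian X : X.FG)
    choose s hs hsx using fun x : X => h P hP hmax x x.2
    let σ : C → C := fun x => if hx : x ∈ X then s ⟨x, hx⟩ else 1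
    have hmem : (∏ x ∈ S, σ x) ∈ J := by
      refine Submodule.mem_colon.2 fun x hx => ?_
      have hle : X ≤ Submodule.comap (LinearMap.lsmul C C (∏ x ∈ S, σ x)) Y := by
        rw [← hS, Submodule.span_le]
        intro z hz
        have hzX : z ∈ X := hS ▸ Submodule.subset_span hz
        show (∏ x ∈ S, σ x) • z ∈ Y
        rw [← Finset.prod_erase_mul S σ hz, mul_smul]
        exact Y.smul_mem _ (by simpa [σ, hzX] using hsx ⟨z, hzX⟩)
      exact hle hx
    have hprod := hJP hmem
    obtain ⟨x, -, hxP⟩ := (Ideal.IsPrime.prod_mem_iff).1 hprod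
    simp only [σ] at hxP
    split_ifs at hxP with hx
    · exact hs _ hxP
    · exact hP.ne_top ((Ideal.eq_top_iff_one _).2 hxP)
  have hrad : maximalIdeal A ≤ (J.comap (algebraMap A C)).radical := by
    rw [Ideal.radical_eq_sInf]
    refine le_sInf fun p ⟨hp, hpp⟩ => ?_
    haveI := hpp
    obtain ⟨P, hle, hP, hPp⟩ := Ideal.exists_ideal_over_prime_of_isIntegral (S := C) p J hp
    haveI := hP
    haveI := hJ P hP hle
    have : (P.comap (algebraMap A C)).IsMaximal := Ideal.isMaximal_comap_of_isIntegral_of_isMaximal P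
    exact ((IsLocalRing.eq_maximalIdeal this).symm.trans hPp).le
  refine SopLenLib.length_ne_top_of_annihilator _ hrad _ fun r hr => Module.mem_annihilator.2 fun q => ?_
  obtain ⟨⟨x, hx⟩, rfl⟩ := Submodule.Quotient.mk_surjective _ q
  rw [← Submodule.Quotient.mk_smul, Submodule.Quotient.mk_eq_zero]
  show r • x ∈ Y
  rw [Algebra.smul_def]
  exact Submodule.mem_colon.1 hr x hx

/-- Second isomorphism theorem. -/
theorem colen_sup_eq {Y Z W : Ideal C} (hW : W ≤ Y) (h : Y ⊓ Z ≤ W) :
    colen A (Y ⊔ Z) (W ⊔ Z) = colen A Y W := by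
  let Y' := Submodule.restrictScalars A Y
  let YZ := Submodule.restrictScalars A (Y ⊔ Z)
  let T := (Submodule.restrictScalars A (W ⊔ Z)).submoduleOf YZ
  let f : Y' →ₗ[A] YZ ⧸ T := T.mkQ ∘ₗ Submodule.inclusion (show Y' ≤ YZ from fun x hx => Submodule.mem_sup_left hx)
  have hk : LinearMap.ker f = (Submodule.restrictScalars A W).submoduleOf Y' := by
    ext ⟨x, hx⟩
    simp only [f, T, LinearMap.mem_ker, LinearMap.comp_apply, Submodule.mkQ_apply, Submodule.Quotient.mk_eq_zero]
    show x ∈ W ⊔ Z ↔ x ∈ W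
    refine ⟨fun hxx => ?_, fun hxx => Submodule.mem_sup_left hxx⟩
    obtain ⟨w, hw, z, hz, rfl⟩ := Submodule.mem_sup.1 hxx
    exact add_mem hw (h ⟨by simpa using sub_mem (show w + z ∈ Y from hx) (hW hw), hz⟩)
  have hsurj : Function.Surjective f := fun q => by
    obtain ⟨⟨x, hx⟩, rfl⟩ := Submodule.Quotient.mk_surjective _ q
    obtain ⟨y, hy, z, hz, rfl⟩ := Submodule.mem_sup.1 (show x ∈ Y ⊔ Z from hx)
    refine ⟨⟨y, hy⟩, (Submodule.Quotient.eq _).2 ?_⟩
    show y - (y + z) ∈ W ⊔ Z
    rw [sub_add_cancel_left]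
    exact Submodule.mem_sup_right (neg_mem hz)
  unfold colen OrdDet.qlen
  rw [← (LinearMap.quotKerEquivOfSurjective f hsurj).length_eq, hk]

theorem colen_mul_left {a : C} (ha : a ∈ C⁰) (X Y : Ideal C) :
    colen A (Ideal.span {a} * X) (Ideal.span {a} * Y) = colen A X Y := by
  have key : ∀ Z : Ideal C, Submodule.restrictScalars A (Ideal.span {a} * Z) =
      (Submodule.restrictScalars A Z).map (LinearMap.mulLeft A a) := fun Z => by
    ext x
    show x ∈ Ideal.span {a} * Z ↔ _
    rw [Ideal.mem_span_singleton_mul, Submodule.mem_map]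
    rfl
  unfold colen
  rw [key, key, OrdDet.qlen_map _ (fun x y hxy => sub_eq_zero.1
    (mem_nonZeroDivisors_iff_right.1 ha _ (by rw [mul_comm, mul_sub]; exact sub_eq_zero.2 hxy)))]

/-- `(X + C g) / (X + C r g) ≅ C / (I + C r)` when `I` is the annihilator of `g` modulo `X`. -/
theorem colen_span_mul {X I : Ideal C} {g r : C} (hI : ∀ c : C, c * g ∈ X ↔ c ∈ I) :
    colen A (X ⊔ Ideal.span {g}) (X ⊔ Ideal.span {r * g}) =
      Module.length A (C ⧸ (I ⊔ Ideal.span {r})) := by
  let Y := Submodule.restrictScalars A (X ⊔ Ideal.span {g})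
  let T := (Submodule.restrictScalars A (X ⊔ Ideal.span {r * g})).submoduleOf Y
  let m : C →ₗ[A] Y := (LinearMap.mulRight A g).codRestrict Y
    (fun c => Submodule.mem_sup_right (Ideal.mem_span_singleton'.2 ⟨c, rfl⟩))
  let f : C →ₗ[A] Y ⧸ T := T.mkQ ∘ₗ m
  have hk : LinearMap.ker f = Submodule.restrictScalars A (I ⊔ Ideal.span {r}) := by
    ext c
    simp only [f, T, LinearMap.mem_ker, LinearMap.comp_apply, Submodule.mkQ_apply, Submodule.Quotient.mk_eq_zero]
    show c * g ∈ X ⊔ Ideal.span {r * g} ↔ c ∈ I ⊔ Ideal.span {r}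
    constructor
    · intro hc
      obtain ⟨x, hx, y, hy, hxy⟩ := Submodule.mem_sup.1 hc
      obtain ⟨k, rfl⟩ := Ideal.mem_span_singleton'.1 hy
      refine Submodule.mem_sup.2 ⟨c - k * r, (hI _).1 ?_, k * r, Ideal.mem_span_singleton'.2 ⟨k, rfl⟩,
        sub_add_cancel _ _⟩
      rwa [show (c - k * r) * g = x by linear_combination -hxy]
    · intro hc
      obtain ⟨i, hi, y, hy, rfl⟩ := Submodule.mem_sup.1 hc
      obtain ⟨k, rfl⟩ := Ideal.mem_span_singleton'.1 hy
      rw [add_mul, mul_assoc]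
      exact Submodule.add_mem_sup ((hI _).2 hi) (Ideal.mem_span_singleton'.2 ⟨k, rfl⟩)
  have hsurj : Function.Surjective f := fun q => by
    obtain ⟨⟨x, hx⟩, rfl⟩ := Submodule.Quotient.mk_surjective _ q
    obtain ⟨y, hy, z, hz, rfl⟩ := Submodule.mem_sup.1 (show x ∈ X ⊔ Ideal.span {g} from hx)
    obtain ⟨c, rfl⟩ := Ideal.mem_span_singleton'.1 hz
    refine ⟨c, (Submodule.Quotient.eq _).2 ?_⟩
    show c * g - (y + c * g) ∈ X ⊔ Ideal.span {r * g}
    rw [sub_add_cancel_right]
    exact Submodule.mem_sup_left (neg_mem hy)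
  unfold colen OrdDet.qlen
  rw [← (LinearMap.quotKerEquivOfSurjective f hsurj).length_eq, hk,
    (Submodule.Quotient.restrictScalarsEquiv A (I ⊔ Ideal.span {r})).length_eq]

end Groth.Agent.KeyLemmaLib
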