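import Groth.Agent.KeyLemmaLib.Potential
import Groth.Agent.KeyLemmaLib.Colength

/-!
# The key lemma, in the semi-local situation
-/

set_option autoImplicit false
set_option linter.style.haveILetI false
set_option linter.unusedSectionVars false
universe u

open IsLocalRing nonZeroDivisors

noncomputable section

namespace Groth.Agent.KeyLemmaLib

variable {A : Type u} [CommRing A] [IsLocalRing A] [IsNoetherianRing A]
variable {C : Type u} [CommRing C] [Algebra A C] [Module.Finite A C]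
variable {ι : Type u} [Fintype ι] [DecidableEq ι] (Q : ι → Ideal C) [∀ i, (Q i).IsPrime]

/-- The localisation at the `i`th prime. -/
abbrev QLoc (i : ι) : Type u := Localization.AtPrime (Q i)

/-- Factorisations of two elements at the given primes. -/
structure Sys where
  π : ∀ i, QLoc Q i
  π_mem : ∀ i, π i ∈ (QLoc Q i)⁰
  π_not : ∀ i, ¬ IsUnit (π i)
  π_pow : ∀ i n, ∃ K : ℕ, maximalIdeal (QLoc Q i) ^ K ≤ Ideal.span {π i ^ n}
  a : C
  b : C
  a_mem : a ∈ C⁰
  b_mem : b ∈ C⁰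
  u : ∀ i, (QLoc Q i)ˣ
  v : ∀ i, (QLoc Q i)ˣ
  e : ι → ℕ
  f : ι → ℕ
  fac_a : ∀ i, algebraMap C (QLoc Q i) a = (u i : QLoc Q i) * π i ^ e i
  fac_b : ∀ i, algebraMap C (QLoc Q i) b = (v i : QLoc Q i) * π i ^ f i
  mem : ∀ i, a * b ∈ Q i
  inc : ∀ i j, i ≠ j → ¬ Q i ≤ Q j
  cover : ∀ P : Ideal C, P.IsPrime → a * b ∈ P → P.IsMaximal ∨ ∃ i, P = Q i
  δ : ∀ i, ResidueField (QLoc Q i) → ℤ
  δ_mul : ∀ i x y, x ≠ 0 → y ≠ 0 → δ i (x * y) = δ i x + δ i y
  δ_len : ∀ i (r : C), r ∉ Q i →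
    Module.length A (C ⧸ ((Ideal.span {π i}).comap (algebraMap C (QLoc Q i)) ⊔ Ideal.span {r})) ≠ ⊤ ∧
    δ i (residue _ (algebraMap C (QLoc Q i) r)) =
      ((Module.length A (C ⧸ ((Ideal.span {π i}).comap (algebraMap C (QLoc Q i)) ⊔ Ideal.span {r}))).toNat : ℤ)

variable {Q} (S : Sys (A := A) Q)

namespace Sys

/-- The ideals of prescribed orders. -/
def I (D : ι → ℕ) : Ideal C := ⨅ i, (Ideal.span {S.π i ^ D i}).comap (algebraMap C (QLoc Q i))

theorem mem_I {D : ι → ℕ} {x : C} :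
    x ∈ S.I D ↔ ∀ i, algebraMap C (QLoc Q i) x ∈ Ideal.span {S.π i ^ D i} := by
  simp [I, Submodule.mem_iInf]

theorem I_anti {D D' : ι → ℕ} (h : ∀ i, D i ≤ D' i) : S.I D' ≤ S.I D := fun x hx =>
  S.mem_I.2 fun i => Ideal.span_singleton_le_span_singleton.2 (pow_dvd_pow _ (h i)) (S.mem_I.1 hx i)

theorem I_bump_le (D : ι → ℕ) (i : ι) : S.I (D + bump i) ≤ S.I D := S.I_anti fun _ => Nat.le_add_right _ _

theorem mem_bump {D : ι → ℕ} {i : ι} {x : C} (hx : x ∈ S.I D)
    (hi : algebraMap C (QLoc Q i) x ∈ Ideal.span {S.π i ^ (D i + 1)}) : x ∈ S.I (D + bump i) :=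
  S.mem_I.2 fun j => by
    rcases eq_or_ne j i with rfl | hj
    · simpa [bump] using hi
    · simpa [bump, Pi.single_eq_of_ne hj] using S.mem_I.1 hx j

theorem exists_sep (i : ι) (D : ι → ℕ) :
    ∃ s : C, s ∉ Q i ∧ ∀ j, j ≠ i → algebraMap C (QLoc Q j) s ∈ Ideal.span {S.π j ^ D j} := by
  classical
  choose K hK using fun j => S.π_pow j (D j)
  have hr : ∀ j, ∃ r : C, r ∉ Q i ∧ (j ≠ i → r ∈ Q j) := fun j => by
    rcases eq_or_ne j i with rfl | hj
    · exact ⟨1, fun h => (inferInstance : (Q j).IsPrime).ne_top ((Ideal.eq_top_iff_one _).2 h),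
        fun h => absurd rfl h⟩
    · obtain ⟨r, hr1, hr2⟩ := SetLike.not_le_iff_exists.1 (S.inc j i hj)
      exact ⟨r, hr2, fun _ => hr1⟩
  choose r hr1 hr2 using hr
  refine ⟨∏ j, r j ^ K j, fun h => ?_, fun j hj => ?_⟩
  · obtain ⟨j, -, hj⟩ := (Ideal.IsPrime.prod_mem_iff).1 h
    exact hr1 j ((inferInstance : (Q i).IsPrime).mem_of_pow_mem _ hj)
  · rw [map_prod, ← Finset.mul_prod_erase _ _ (Finset.mem_univ j), map_pow]
    refine Ideal.mul_mem_right _ _ (hK j (Ideal.pow_mem_pow ?_ _))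
    rw [← Localization.AtPrime.map_eq_maximalIdeal]
    exact Ideal.mem_map_of_mem _ (hr2 j hj)

theorem isUnit_img {i : ι} {s : C} (hs : s ∉ Q i) : IsUnit (algebraMap C (QLoc Q i) s) :=
  IsLocalization.map_units (QLoc Q i) (⟨s, hs⟩ : (Q i).primeCompl)

/-- Approximation of a local element. -/
theorem exists_approx (i : ι) (D : ι → ℕ) (c : QLoc Q i) :
    ∃ x ∈ S.I D, ∃ w : (QLoc Q i)ˣ, algebraMap C (QLoc Q i) x = w * (c * S.π i ^ D i) := by
  obtain ⟨s, hs, hsj⟩ := S.exists_sep i D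
  obtain ⟨⟨x, t⟩, hxt⟩ := IsLocalization.surj (Q i).primeCompl (c * S.π i ^ D i)
  refine ⟨s * x, S.mem_I.2 fun j => ?_, (isUnit_img hs).unit * (IsLocalization.map_units (QLoc Q i) t).unit, ?_⟩
  · rw [map_mul]
    rcases eq_or_ne j i with rfl | hj
    · refine Ideal.mul_mem_left _ _ ?_
      rw [← hxt]
      exact Ideal.mul_mem_right _ _ (Ideal.mul_mem_left _ _ (Ideal.mem_span_singleton_self _))
    · exact Ideal.mul_mem_right _ _ (hsj j hj)
  · rw [map_mul, ← hxt, Units.val_mul, IsUnit.unit_spec, IsUnit.unit_spec]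
    ring

/-- `g` generates the graded piece of `D` at `i`, with coefficient `w`. -/
def Gen (i : ι) (D : ι → ℕ) (g : C) (w : (QLoc Q i)ˣ) : Prop :=
  g ∈ S.I D ∧ algebraMap C (QLoc Q i) g = w * S.π i ^ D i

theorem exists_gen (i : ι) (D : ι → ℕ) : ∃ g w, S.Gen i D g w := by
  obtain ⟨x, hx, w, hw⟩ := S.exists_approx i D 1
  exact ⟨x, w, hx, by rw [hw, one_mul]⟩

theorem cancel (i : ι) (n : ℕ) {x y : QLoc Q i} (h : x * S.π i ^ n = y * S.π i ^ n) : x = y :=
  sub_eq_zero.1 (mem_nonZeroDivisors_iff_right.1 (pow_mem (S.π_mem i) n) _ (by rw [sub_mul, h, sub_self]))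

/-- The annihilator of a generator in the graded piece. -/
def P (i : ι) : Ideal C := (Ideal.span {S.π i}).comap (algebraMap C (QLoc Q i))

theorem mul_gen_mem {i : ι} {D : ι → ℕ} {g : C} {w : (QLoc Q i)ˣ} (h : S.Gen i D g w) (c : C) :
    c * g ∈ S.I (D + bump i) ↔ c ∈ S.P i := by
  constructor
  · intro hc
    have := S.mem_I.1 hc i
    simp only [Pi.add_apply, bump, Pi.single_eq_same, map_mul, h.2] at this
    obtain ⟨k, hk⟩ := Ideal.mem_span_singleton'.1 this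
    have h2 : algebraMap C (QLoc Q i) c * w = k * S.π i := S.cancel i (D i) (by
      rw [mul_assoc, ← hk, pow_succ]; ring)
    show algebraMap C (QLoc Q i) c ∈ Ideal.span {S.π i}
    refine Ideal.mem_span_singleton'.2 ⟨k * (w⁻¹ : (QLoc Q i)ˣ), ?_⟩
    rw [mul_right_comm, ← h2, mul_assoc, Units.mul_inv, mul_one]
  · intro hc
    refine S.mem_bump (Ideal.mul_mem_left _ _ h.1) ?_
    obtain ⟨k, hk⟩ := Ideal.mem_span_singleton'.1 (show algebraMap C (QLoc Q i) c ∈ Ideal.span {S.π i} from hc)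
    rw [map_mul, h.2, ← hk]
    exact Ideal.mem_span_singleton'.2 ⟨k * w, by ring⟩

theorem not_mem_of_span (i : ι) {c : C} (h : c ∈ S.P i) : c ∈ Q i := by
  by_contra hc
  exact S.π_not i (isUnit_of_dvd_unit (Ideal.mem_span_singleton.1 h) (isUnit_img hc))

theorem exists_rel (i : ι) {D : ι → ℕ} {g : C} {w : (QLoc Q i)ˣ} (h : S.Gen i D g w) {x : C}
    (hx : x ∈ S.I D) : ∃ s r : C, s ∉ Q i ∧ s * x - r * g ∈ S.I (D + bump i) ∧
      ∀ w' : (QLoc Q i)ˣ, algebraMap C (QLoc Q i) x = w' * S.π i ^ D i →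
        algebraMap C (QLoc Q i) s * w' = algebraMap C (QLoc Q i) r * w := by
  obtain ⟨c, hc⟩ := Ideal.mem_span_singleton'.1 (S.mem_I.1 hx i)
  obtain ⟨⟨r, s⟩, hrs⟩ := IsLocalization.surj (Q i).primeCompl (c * (w⁻¹ : (QLoc Q i)ˣ))
  refine ⟨s, r, s.2, ?_, fun w' hw' => ?_⟩
  · refine S.mem_bump (sub_mem (Ideal.mul_mem_left _ _ hx) (Ideal.mul_mem_left _ _ h.1)) ?_
    rw [map_sub, map_mul, map_mul, h.2, ← hc]
    simp only at hrs
    rw [← hrs]
    convert Ideal.zero_mem _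
    linear_combination -(c * algebraMap C (QLoc Q i) s * S.π i ^ D i) * w.inv_mul
  · have : (w' : QLoc Q i) = c := S.cancel i (D i) (by rw [← hw', hc])
    simp only at hrs
    rw [this, ← hrs]
    linear_combination -(c * algebraMap C (QLoc Q i) s) * w.inv_mul

theorem fin_sup {i : ι} {D : ι → ℕ} {g : C} {w : (QLoc Q i)ˣ} (h : S.Gen i D g w) :
    colen A (S.I D) (S.I (D + bump i) ⊔ Ideal.span {g}) ≠ ⊤ := by
  refine colen_ne_top A fun P hP hmax x hx => ?_
  by_cases ht : S.a * S.b ∈ P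
  · obtain ⟨j, rfl⟩ := (S.cover P hP ht).resolve_left hmax
    rcases eq_or_ne j i with rfl | hj
    · obtain ⟨s, r, hs, hmem, -⟩ := S.exists_rel j h hx
      exact ⟨s, hs, Submodule.mem_sup.2 ⟨_, hmem, r * g, Ideal.mem_span_singleton'.2 ⟨r, rfl⟩, sub_add_cancel _ _⟩⟩
    · obtain ⟨s, hs, hsk⟩ := S.exists_sep j (bump i)
      refine ⟨s ^ (D i + 1), fun hc => hs (hP.mem_of_pow_mem _ hc), Submodule.mem_sup_left
        (S.mem_bump (Ideal.mul_mem_left _ _ hx) ?_)⟩
      rw [map_mul, map_pow]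
      refine Ideal.mul_mem_right _ _ ?_
      rw [← Ideal.span_singleton_pow]
      exact Ideal.pow_mem_pow (by simpa [bump] using hsk i hj.symm) _
  · refine ⟨(S.a * S.b) ^ (D i + 1), fun hc => ht (hP.mem_of_pow_mem _ hc), Submodule.mem_sup_left
      (S.mem_bump (Ideal.mul_mem_left _ _ hx) ?_)⟩
    rw [map_mul, map_pow]
    refine Ideal.mul_mem_right _ _ ?_
    rw [← Ideal.span_singleton_pow]
    refine Ideal.pow_mem_pow ?_ _
    have hpos : 0 < S.e i + S.f i := by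
      by_contra hz
      have he : S.e i = 0 := by omega
      have hf : S.f i = 0 := by omega
      have hu : IsUnit (algebraMap C (QLoc Q i) (S.a * S.b)) := by
        rw [map_mul, S.fac_a, S.fac_b, he, hf, pow_zero, mul_one, mul_one]
        exact (S.u i).isUnit.mul (S.v i).isUnit
      exact (IsLocalization.AtPrime.isUnit_to_map_iff (QLoc Q i) (Q i) _).1 hu (S.mem i)
    refine Ideal.mem_span_singleton.2 ?_
    rw [map_mul, S.fac_a, S.fac_b, mul_mul_mul_comm, ← pow_add]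
    exact (dvd_pow_self _ hpos.ne').mul_left _

/-- The index of a graded piece. -/
def idx (i : ι) (D : ι → ℕ) (g : C) (w : (QLoc Q i)ˣ) : ℤ :=
  ((colen A (S.I D) (S.I (D + bump i) ⊔ Ideal.span {g})).toNat : ℤ) - S.δ i (residue _ (w : QLoc Q i))

theorem δ_mul' (i : ι) (x y : QLoc Q i) (hx : IsUnit x) (hy : IsUnit y) :
    S.δ i (residue _ (x * y)) = S.δ i (residue _ x) + S.δ i (residue _ y) := by
  rw [map_mul]
  exact S.δ_mul i _ _ ((residue_ne_zero_iff_isUnit _).2 hx) ((residue_ne_zero_iff_isUnit _).2 hy)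

theorem idx_eq {i : ι} {D : ι → ℕ} {g g' : C} {w w' : (QLoc Q i)ˣ} (h : S.Gen i D g w) (h' : S.Gen i D g' w') :
    S.idx i D g w = S.idx i D g' w' := by
  obtain ⟨s, r, hs, hmem, hw⟩ := S.exists_rel i h h'.1
  have hrel := hw w' h'.2
  have hr : r ∉ Q i := fun hr => by
    have : IsUnit (algebraMap C (QLoc Q i) r * (w : QLoc Q i)) := hrel ▸ (isUnit_img hs).mul w'.isUnit
    exact (IsLocalization.AtPrime.isUnit_to_map_iff (QLoc Q i) (Q i) _).1 (isUnit_of_mul_isUnit_left this) hr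
  have heq : S.I (D + bump i) ⊔ Ideal.span {s * g'} = S.I (D + bump i) ⊔ Ideal.span {r * g} := by
    refine le_antisymm (sup_le le_sup_left ?_) (sup_le le_sup_left ?_) <;> rw [Ideal.span_singleton_le_iff_mem]
    · exact Submodule.mem_sup.2 ⟨_, hmem, _, Ideal.mem_span_singleton_self _, sub_add_cancel _ _⟩
    · exact Submodule.mem_sup.2 ⟨_, neg_mem hmem, _, Ideal.mem_span_singleton_self _, by ring⟩
  have key : ∀ {g : C} {w : (QLoc Q i)ˣ}, S.Gen i D g w → ∀ r ∉ Q i,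
      ((colen A (S.I D) (S.I (D + bump i) ⊔ Ideal.span {r * g})).toNat : ℤ) =
        (colen A (S.I D) (S.I (D + bump i) ⊔ Ideal.span {g})).toNat +
          S.δ i (residue _ (algebraMap C (QLoc Q i) r)) := by
    intro g w h r hr
    have h1 : S.I (D + bump i) ⊔ Ideal.span {r * g} ≤ S.I (D + bump i) ⊔ Ideal.span {g} :=
      sup_le_sup_left (Ideal.span_singleton_le_span_singleton.2 (dvd_mul_left g r)) _
    have h2 : S.I (D + bump i) ⊔ Ideal.span {g} ≤ S.I D :=
      sup_le (S.I_bump_le D i) ((Ideal.span_singleton_le_iff_mem _).2 h.1)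
    have hd : Module.length A (C ⧸ (S.P i ⊔ Ideal.span {r})) ≠ ⊤ ∧ S.δ i (residue _ (algebraMap C (QLoc Q i) r)) =
      ((Module.length A (C ⧸ (S.P i ⊔ Ideal.span {r}))).toNat : ℤ) := S.δ_len i r hr
    rw [colen_add A h1 h2, colen_span_mul A (S.mul_gen_mem h), ENat.toNat_add hd.1 (S.fin_sup h)]
    have hd2 := hd.2
    omega
  have e1 := key h r hr
  have e2 := key h' s hs
  rw [heq, e1] at e2
  have e3 : S.δ i (residue _ (algebraMap C (QLoc Q i) s * (w' : QLoc Q i))) =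
      S.δ i (residue _ (algebraMap C (QLoc Q i) r * (w : QLoc Q i))) := by rw [hrel]
  rw [S.δ_mul' i _ _ (isUnit_img hs) w'.isUnit, S.δ_mul' i _ _ (isUnit_img hr) w.isUnit] at e3
  rw [idx, idx]
  omega

/-- The chosen index. -/
def lam (i : ι) (D : ι → ℕ) : ℤ :=
  S.idx i D (S.exists_gen i D).choose (S.exists_gen i D).choose_spec.choose

theorem lam_eq {i : ι} {D : ι → ℕ} {g : C} {w : (QLoc Q i)ˣ} (h : S.Gen i D g w) : S.lam i D = S.idx i D g w :=
  S.idx_eq (S.exists_gen i D).choose_spec.choose_spec h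

theorem square (i j : ι) (D : ι → ℕ) (hij : i ≠ j) :
    S.lam i D + S.lam j (D + bump i) = S.lam j D + S.lam i (D + bump j) := by
  obtain ⟨gi, wi, hgi⟩ := S.exists_gen i (D + bump j)
  obtain ⟨gj, wj, hgj⟩ := S.exists_gen j (D + bump i)
  have down : ∀ {i j : ι}, i ≠ j → ∀ {g : C} {w : (QLoc Q i)ˣ}, S.Gen i (D + bump j) g w → S.Gen i D g w :=
    fun {i j} hij g w h => ⟨S.I_bump_le D j h.1, by simpa [bump, Pi.single_eq_of_ne hij] using h.2⟩
  rw [S.lam_eq (down hij hgi), S.lam_eq hgj, S.lam_eq (down hij.symm hgj), S.lam_eq hgi]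
  have main : ∀ {i j : ι}, i ≠ j → ∀ {gi gj : C} {wi : (QLoc Q i)ˣ} {wj : (QLoc Q j)ˣ},
      S.Gen i (D + bump j) gi wi → S.Gen j (D + bump i) gj wj →
      (colen A (S.I D) (S.I (D + bump i + bump j) ⊔ (Ideal.span {gi} ⊔ Ideal.span {gj}))).toNat =
        (colen A (S.I D) (S.I (D + bump i) ⊔ Ideal.span {gi})).toNat +
          (colen A (S.I (D + bump i)) (S.I (D + bump i + bump j) ⊔ Ideal.span {gj})).toNat := by
    intro i j hij gi gj wi wj hgi hgj
    have hW : S.I (D + bump i + bump j) ⊔ Ideal.span {gj} ≤ S.I (D + bump i) :=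
      sup_le (S.I_bump_le _ j) ((Ideal.span_singleton_le_iff_mem _).2 hgj.1)
    have hYZ : S.I (D + bump i) ⊓ Ideal.span {gi} ≤ S.I (D + bump i + bump j) ⊔ Ideal.span {gj} := by
      rintro x ⟨hx1, hx2⟩
      obtain ⟨c, rfl⟩ := Ideal.mem_span_singleton'.1 hx2
      refine Submodule.mem_sup_left (S.mem_bump hx1 ?_)
      have := S.mem_I.1 (Ideal.mul_mem_left _ c hgi.1) j
      simpa [bump, Pi.single_eq_of_ne hij.symm] using this
    have hiso := colen_sup_eq A hW hYZ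
    have h1 : S.I (D + bump i + bump j) ⊔ Ideal.span {gj} ⊔ Ideal.span {gi} ≤
        S.I (D + bump i) ⊔ Ideal.span {gi} := sup_le_sup_right hW _
    have h2 : S.I (D + bump i) ⊔ Ideal.span {gi} ≤ S.I D :=
      sup_le (S.I_bump_le D i) ((Ideal.span_singleton_le_iff_mem _).2 (down hij hgi).1)
    rw [sup_comm (Ideal.span {gi}), ← sup_assoc, colen_add A h1 h2, hiso,
      ENat.toNat_add (S.fin_sup hgj) (S.fin_sup (down hij hgi)), add_comm]
  have m1 := main hij hgi hgj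
  have m2 := main hij.symm hgj hgi
  rw [idx, idx, idx, idx]
  rw [add_right_comm D (bump j) (bump i)] at m2 ⊢
  rw [sup_comm (Ideal.span {gj}) (Ideal.span {gi})] at m2
  omega

/-- The colength of `a I(D)` in `I(D + e)`. -/
def E (D : ι → ℕ) : ℕ∞ := colen A (S.I (D + S.e)) (Ideal.span {S.a} * S.I D)

theorem mul_le (D : ι → ℕ) : Ideal.span {S.a} * S.I D ≤ S.I (D + S.e) := by
  intro x hx
  obtain ⟨z, hz, rfl⟩ := Ideal.mem_span_singleton_mul.1 hx
  refine S.mem_I.2 fun i => ?_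
  rw [map_mul, S.fac_a, Pi.add_apply, pow_add, mul_assoc, mul_comm (S.π i ^ D i)]
  obtain ⟨c, hc⟩ := Ideal.mem_span_singleton'.1 (S.mem_I.1 hz i)
  rw [← hc]
  exact Ideal.mem_span_singleton'.2 ⟨(S.u i : QLoc Q i) * c, by ring⟩

theorem E_ne_top (D : ι → ℕ) : S.E D ≠ ⊤ := by
  refine colen_ne_top A fun P hP hmax x hx => ?_
  by_cases ht : S.a * S.b ∈ P
  · obtain ⟨i, rfl⟩ := (S.cover P hP ht).resolve_left hmax
    obtain ⟨c, hc⟩ := Ideal.mem_span_singleton'.1 (S.mem_I.1 hx i)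
    obtain ⟨z, hz, w, hw⟩ := S.exists_approx i D (c * ((S.u i)⁻¹ : (QLoc Q i)ˣ))
    obtain ⟨⟨s2, s1⟩, hs⟩ := IsLocalization.surj (Q i).primeCompl (((w⁻¹ : (QLoc Q i)ˣ) : QLoc Q i))
    simp only at hs
    have hs2 : s2 ∉ Q i := fun h => by
      have : IsUnit (algebraMap C (QLoc Q i) s2) := hs ▸ (w⁻¹).isUnit.mul (isUnit_img s1.2)
      exact (IsLocalization.AtPrime.isUnit_to_map_iff (QLoc Q i) (Q i) _).1 this h
    have h0 : algebraMap C (QLoc Q i) ((s1 : C) * x - s2 * (S.a * z)) = 0 := by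
      rw [map_sub, map_mul, map_mul, map_mul, S.fac_a, hw, ← hc, ← hs, Pi.add_apply, pow_add]
      linear_combination -(algebraMap C (QLoc Q i) s1 * c * S.π i ^ D i * S.π i ^ S.e i) * w.inv_mul -
        (algebraMap C (QLoc Q i) s1 * ((w⁻¹ : (QLoc Q i)ˣ) : QLoc Q i) * w * c * S.π i ^ D i * S.π i ^ S.e i) *
          (S.u i).mul_inv
    obtain ⟨s3, hs3⟩ := (IsLocalization.map_eq_zero_iff (Q i).primeCompl (QLoc Q i) _).1 h0
    refine ⟨s3 * s1, fun h => ((inferInstance : (Q i).IsPrime).mem_or_mem h).elim s3.2 s1.2,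
      Ideal.mem_span_singleton_mul.2 ⟨s3 * s2 * z, Ideal.mul_mem_left _ _ hz, ?_⟩⟩
    linear_combination -hs3
  · refine ⟨S.a * S.b, ht, Ideal.mem_span_singleton_mul.2 ⟨S.b * x, Ideal.mul_mem_left _ _
      (S.I_anti (fun _ => Nat.le_add_right _ _) hx), by ring⟩⟩

theorem step (D : ι → ℕ) (i : ι) :
    ((S.E D).toNat : ℤ) - (S.E (D + bump i)).toNat =
      S.lam i (D + S.e) - S.lam i D + S.δ i (residue _ (S.u i : QLoc Q i)) := by
  obtain ⟨g, w, hg⟩ := S.exists_gen i D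
  have hag : S.Gen i (D + S.e) (S.a * g) (S.u i * w) := by
    refine ⟨S.mul_le D (Ideal.mul_mem_mul (Ideal.mem_span_singleton_self _) hg.1), ?_⟩
    rw [map_mul, S.fac_a, hg.2, Units.val_mul, Pi.add_apply, pow_add]
    ring
  let X := S.I (D + S.e + bump i)
  let T := Ideal.span {S.a} * S.I D
  let T' := Ideal.span {S.a} * S.I (D + bump i)
  have hTX : T' ≤ X := by
    have := S.mul_le (D + bump i)
    rwa [add_right_comm] at this
  have hT' : T' ≤ T := Ideal.mul_mono_right (S.I_bump_le D i)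
  have hinter : X ⊓ T ≤ T' := by
    rintro x ⟨hxX, hxT⟩
    obtain ⟨z, hz, rfl⟩ := Ideal.mem_span_singleton_mul.1 hxT
    refine Ideal.mul_mem_mul (Ideal.mem_span_singleton_self _) (S.mem_bump hz ?_)
    obtain ⟨c, hc⟩ := Ideal.mem_span_singleton'.1 (S.mem_I.1 hxX i)
    refine Ideal.mem_span_singleton'.2 ⟨c * ((S.u i)⁻¹ : (QLoc Q i)ˣ), S.cancel i (S.e i) ?_⟩
    rw [map_mul, S.fac_a] at hc
    simp only [Pi.add_apply, bump, Pi.single_eq_same] at hc
    rw [pow_add, pow_add] at hc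
    linear_combination ((S.u i)⁻¹ : (QLoc Q i)ˣ).val * hc +
      (algebraMap C (QLoc Q i) z * S.π i ^ S.e i) * (S.u i).inv_mul
  have hTle : T ≤ S.I (D + S.e) := S.mul_le D
  have hXle : X ≤ S.I (D + S.e) := S.I_bump_le _ i
  have hsupT : X ⊔ T ≤ S.I (D + S.e) := sup_le hXle hTle
  have e1 : colen A (X ⊔ T) T = S.E (D + bump i) := by
    have h := colen_sup_eq A (Y := X) (Z := T) (W := T') hTX hinter
    rw [sup_eq_right.2 hT'] at h
    rw [h, E, add_right_comm]
  have e2 : S.E D = colen A (X ⊔ T) T + colen A (S.I (D + S.e)) (X ⊔ T) := colen_add A le_sup_right hsupT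
  have hmul : Ideal.span {S.a} * (S.I (D + bump i) ⊔ Ideal.span {g}) = T' ⊔ Ideal.span {S.a * g} := by
    rw [Ideal.mul_sup, Ideal.span_singleton_mul_span_singleton]
  have hle1 : X ⊔ Ideal.span {S.a * g} ≤ X ⊔ T := sup_le_sup_left ((Ideal.span_singleton_le_iff_mem _).2
    (Ideal.mul_mem_mul (Ideal.mem_span_singleton_self _) hg.1)) _
  have e3 : colen A (X ⊔ T) (X ⊔ Ideal.span {S.a * g}) = colen A (S.I D) (S.I (D + bump i) ⊔ Ideal.span {g}) := by
    have h := colen_sup_eq A (Y := T) (Z := X) (W := T' ⊔ Ideal.span {S.a * g})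
      (sup_le hT' ((Ideal.span_singleton_le_iff_mem _).2
        (Ideal.mul_mem_mul (Ideal.mem_span_singleton_self _) hg.1)))
      (fun x hx => Submodule.mem_sup_left (hinter ⟨hx.2, hx.1⟩))
    rw [sup_comm T, sup_comm (T' ⊔ _), ← sup_assoc, sup_eq_left.2 hTX, ← hmul, colen_mul_left A S.a_mem] at h
    exact h
  have e4 : colen A (S.I (D + S.e)) (X ⊔ Ideal.span {S.a * g}) =
      colen A (S.I D) (S.I (D + bump i) ⊔ Ideal.span {g}) + colen A (S.I (D + S.e)) (X ⊔ T) := by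
    rw [colen_add A hle1 hsupT, e3]
  have f1 := S.fin_sup hag
  have f2 := S.fin_sup hg
  have f3 := S.E_ne_top (D + bump i)
  have f4 : colen A (S.I (D + S.e)) (X ⊔ T) ≠ ⊤ := fun h => f1 (by
    show colen A (S.I (D + S.e)) (X ⊔ Ideal.span {S.a * g}) = ⊤
    rw [e4, h, add_top])
  rw [S.lam_eq hag, S.lam_eq hg, idx, idx, e2, e1, ENat.toNat_add f3 f4]
  show _ = ((colen A (S.I (D + S.e)) (X ⊔ Ideal.span {S.a * g})).toNat : ℤ) - _ - _ + _
  rw [e4, ENat.toNat_add f2 f4, Units.val_mul, S.δ_mul' i _ _ (S.u i).isUnit w.isUnit]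
  push_cast
  ring

theorem total (Φ : (ι → ℕ) → ℤ) (hΦ : ∀ i D, Φ (D + bump i) = Φ D + S.lam i D) (D : ι → ℕ) :
    ((S.E 0).toNat : ℤ) - (S.E D).toNat =
      Φ (D + S.e) - Φ S.e - Φ D + Φ 0 + ∑ i, (D i : ℤ) * S.δ i (residue _ (S.u i : QLoc Q i)) := by
  induction D using bump_induction with
  | h0 => simp
  | hs D i ih =>
    have hs := S.step D i
    have e1 : (D + bump i) + S.e = (D + S.e) + bump i := add_right_comm _ _ _
    have e2 : ∑ k, ((D + bump i) k : ℤ) * S.δ k (residue _ (S.u k : QLoc Q k)) =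
        ∑ k, (D k : ℤ) * S.δ k (residue _ (S.u k : QLoc Q k)) + S.δ i (residue _ (S.u i : QLoc Q i)) := by
      simp only [Pi.add_apply, Nat.cast_add, add_mul, Finset.sum_add_distrib]
      congr 1
      rw [Finset.sum_eq_single i (fun k _ hk => by simp [bump, Pi.single_eq_of_ne hk]) (by simp)]
      simp [bump]
    rw [e1, hΦ, hΦ, e2]
    linarith

/-- The two elements interchanged. -/
def swap : Sys (A := A) Q :=
  { S with
    a := S.b, b := S.a, a_mem := S.b_mem, b_mem := S.a_mem, u := S.v, v := S.u, e := S.f, f := S.e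
    fac_a := S.fac_b, fac_b := S.fac_a
    mem := fun i => mul_comm S.a S.b ▸ S.mem i
    cover := fun P hP h => S.cover P hP (mul_comm S.a S.b ▸ h) }

theorem key (S : Sys (A := A) Q) :
    ∑ i, ((S.f i : ℤ) * S.δ i (residue _ (S.u i : QLoc Q i)) -
      (S.e i : ℤ) * S.δ i (residue _ (S.v i : QLoc Q i))) = 0 := by
  obtain ⟨Φ, hΦ⟩ := exists_potential S.lam fun i j D => S.square i j D
  have h1 := S.total Φ hΦ S.f
  have h2 := S.swap.total Φ hΦ S.e
  have top : ∀ T : Sys (A := A) Q, colen A (T.I (0 + T.e + T.f)) (Ideal.span {T.a * T.b} * T.I 0) =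
      T.swap.E 0 + T.E T.f := fun T => by
    have hb : Ideal.span {T.b} * T.I 0 ≤ T.I T.f := by
      have := T.swap.mul_le 0
      rwa [zero_add] at this
    rw [← Ideal.span_singleton_mul_span_singleton, mul_assoc,
      colen_add A (Ideal.mul_mono_right hb) (by simpa [add_comm] using T.mul_le T.f),
      colen_mul_left A T.a_mem, zero_add, E, E, add_comm T.f]
    congr 1
    show _ = colen A (T.I (0 + T.f)) _
    rw [zero_add]
    rfl
  have t1 := top S
  have t2 := top S.swap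
  rw [show S.swap.swap = S from rfl, show S.swap.I = S.I from rfl, show S.swap.a * S.swap.b = S.a * S.b from mul_comm _ _,
    show 0 + S.swap.e + S.swap.f = 0 + S.e + S.f from add_right_comm _ _ _, t1] at t2
  have t3 := congrArg ENat.toNat t2
  rw [ENat.toNat_add (S.swap.E_ne_top _) (S.E_ne_top _), ENat.toNat_add (S.E_ne_top _) (S.swap.E_ne_top _)] at t3
  rw [Finset.sum_sub_distrib]
  have s1 : Φ (S.f + S.e) = Φ (S.e + S.swap.e) := congrArg Φ (add_comm _ _)
  have s2 : Φ S.swap.e = Φ S.f := rfl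
  have s3 : S.swap.f = S.e := rfl
  simp only [s3] at t3
  simp only [show S.swap.u = S.v from rfl, show S.swap.δ = S.δ from rfl] at h2
  linarith

end Sys

end Groth.Agent.KeyLemmaLib
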