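import Groth.Agent.KeyLemmaLib.Colength

/-!
# Colength of a multiplication on a module concentrated at one prime of dimension one
-/

set_option autoImplicit false
set_option linter.style.haveILetI false
set_option linter.unusedSectionVars false
universe u

open IsLocalRing nonZeroDivisors

noncomputable section

namespace Groth.Agent.KeyLemmaLib

variable {A : Type u} [CommRing A] [IsLocalRing A] [IsNoetherianRing A]
variable {C : Type u} [CommRing C] [Algebra A C] [Module.Finite A C]

theorem lengthA_eq_range_add {X Y Z : Type u} [AddCommGroup X] [AddCommGroup Y] [AddCommGroup Z] [Module C X]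
    [Module C Y] [Module C Z] [Module A X] [Module A Y] [Module A Z] [IsScalarTower A C X]
    [IsScalarTower A C Y] [IsScalarTower A C Z] {f : X →ₗ[C] Y} {g : Y →ₗ[C] Z} (h : Function.Exact f g) :
    Module.length A Y = Module.length A (LinearMap.range f) + Module.length A (LinearMap.range g) :=
  Module.length_eq_add_of_exact ((LinearMap.range f).subtype.restrictScalars A) (g.rangeRestrict.restrictScalars A)
    (Submodule.subtype_injective _) (LinearMap.surjective_rangeRestrict g)
    (show Function.Exact (LinearMap.range f).subtype g.rangeRestrict from LinearMap.exact_iff.2 (by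
      rw [LinearMap.ker_rangeRestrict, Submodule.range_subtype]
      exact h.linearMap_ker_eq))

/-- Kernels and cokernels of a scalar along a short exact sequence, lengths over the base. -/
theorem lengthA_six (g : C) {X Y Z : Type u} [AddCommGroup X] [AddCommGroup Y] [AddCommGroup Z] [Module C X]
    [Module C Y] [Module C Z] [Module A X] [Module A Y] [Module A Z] [IsScalarTower A C X]
    [IsScalarTower A C Y] [IsScalarTower A C Z] (f : X →ₗ[C] Y) (h : Y →ₗ[C] Z) (hf : Function.Injective f)
    (hh : Function.Surjective h) (hfh : Function.Exact f h) :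
    Module.length A (Y ⧸ SopLenLib.mulRange g Y) +
        (Module.length A (SopLenLib.mulKer g X) + Module.length A (SopLenLib.mulKer g Z)) =
      Module.length A (SopLenLib.mulKer g Y) +
        (Module.length A (X ⧸ SopLenLib.mulRange g X) + Module.length A (Z ⧸ SopLenLib.mulRange g Z)) := by
  let F1 : SopLenLib.mulKer g X →ₗ[C] SopLenLib.mulKer g Y := f.restrict fun x hx => by
    simp only [LinearMap.mem_ker, LinearMap.lsmul_apply] at hx ⊢
    rw [← map_smul, hx, map_zero]
  let F : SopLenLib.mulKer g Y →ₗ[C] SopLenLib.mulKer g Z := h.restrict fun x hx => by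
    simp only [LinearMap.mem_ker, LinearMap.lsmul_apply] at hx ⊢
    rw [← map_smul, hx, map_zero]
  let G : (X ⧸ SopLenLib.mulRange g X) →ₗ[C] (Y ⧸ SopLenLib.mulRange g Y) := Submodule.mapQ _ _ f (by
    rintro _ ⟨x, rfl⟩
    exact ⟨f x, (map_smul f g x).symm⟩)
  let H : (Y ⧸ SopLenLib.mulRange g Y) →ₗ[C] (Z ⧸ SopLenLib.mulRange g Z) := Submodule.mapQ _ _ h (by
    rintro _ ⟨x, rfl⟩
    exact ⟨h x, (map_smul h g x).symm⟩)
  have h1 : f.comp (LinearMap.lsmul C X g) = (LinearMap.lsmul C Y g).comp f := LinearMap.ext fun x => map_smul f g x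
  have h2 : h.comp (LinearMap.lsmul C Y g) = (LinearMap.lsmul C Z g).comp h := LinearMap.ext fun x => map_smul h g x
  let δ := SnakeLemma.δ' (LinearMap.lsmul C X g) (LinearMap.lsmul C Y g) (LinearMap.lsmul C Z g) f h hfh f h hfh h1 h2
    (SopLenLib.mulKer g Z).subtype (LinearMap.exact_subtype_ker_map _) (SopLenLib.mulRange g X).mkQ
    (LinearMap.exact_map_mkQ_range _) hh hf
  have eF : Function.Exact F δ := SnakeLemma.exact_δ'_right _ _ _ f h hfh f h hfh h1 h2
    (SopLenLib.mulKer g Y).subtype (LinearMap.exact_subtype_ker_map _) _ _ _ _ hh hf F rfl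
    (Submodule.subtype_injective _)
  have eG : Function.Exact δ G := SnakeLemma.exact_δ'_left _ _ _ f h hfh f h hfh h1 h2
    _ _ _ _ (SopLenLib.mulRange g Y).mkQ (LinearMap.exact_map_mkQ_range _) hh hf G rfl (Submodule.mkQ_surjective _)
  have eH : Function.Exact G H := fun y => by
    constructor
    · obtain ⟨b, rfl⟩ := Submodule.Quotient.mk_surjective _ y
      intro hy
      obtain ⟨c, hc⟩ := (Submodule.Quotient.mk_eq_zero _).1 hy
      obtain ⟨b', rfl⟩ := hh c
      simp only [LinearMap.lsmul_apply] at hc
      obtain ⟨a, ha⟩ := (hfh (b - g • b')).1 (by rw [map_sub, map_smul, hc, sub_self])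
      refine ⟨Submodule.Quotient.mk a, (Submodule.Quotient.eq _).2 ⟨-b', ?_⟩⟩
      show g • -b' = f a - b
      rw [ha, smul_neg]
      abel
    · rintro ⟨x, rfl⟩
      obtain ⟨a, rfl⟩ := Submodule.Quotient.mk_surjective _ x
      show Submodule.Quotient.mk (h (f a)) = 0
      rw [hfh.apply_apply_eq_zero]
      exact Submodule.Quotient.mk_zero _
  have hH : Function.Surjective H := fun y => by
    obtain ⟨c, rfl⟩ := Submodule.Quotient.mk_surjective _ y
    obtain ⟨b, rfl⟩ := hh c
    exact ⟨Submodule.Quotient.mk b, rfl⟩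
  have hF1 : Function.Injective F1 := fun x y hxy => Subtype.ext (hf (congrArg Subtype.val hxy))
  have eF1 : Function.Exact F1 F := fun y => by
    constructor
    · intro hy
      obtain ⟨a, ha⟩ := (hfh y.1).1 (congrArg Subtype.val hy)
      exact ⟨⟨a, LinearMap.mem_ker.2 (hf (by rw [LinearMap.lsmul_apply, map_smul, ha, map_zero]; exact y.2))⟩, Subtype.ext ha⟩
    · rintro ⟨x, rfl⟩
      exact Subtype.ext (hfh.apply_apply_eq_zero x.1)
  rw [lengthA_eq_range_add (A := A) eF1, lengthA_eq_range_add (A := A) eH, lengthA_eq_range_add (A := A) eG,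
    lengthA_eq_range_add (A := A) eF, ((LinearEquiv.ofInjective F1 hF1).restrictScalars A).length_eq,
    LinearMap.range_eq_top.2 hH,
    ((Submodule.topEquiv (R := C) (M := Z ⧸ SopLenLib.mulRange g Z)).restrictScalars A).length_eq]
  ac_rfl

theorem length_simple_ne_top (P : Ideal C) [P.IsMaximal] : Module.length A (C ⧸ P) ≠ ⊤ := by
  haveI : Algebra.IsIntegral A C := Algebra.IsIntegral.of_finite A C
  refine SopLenLib.length_ne_top_of_annihilator (maximalIdeal A) Ideal.le_radical _ fun r hr =>
    Module.mem_annihilator.2 fun q => ?_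
  obtain ⟨c, rfl⟩ := Ideal.Quotient.mk_surjective q
  rw [← Ideal.Quotient.mkₐ_eq_mk A, ← map_smul, Ideal.Quotient.mkₐ_eq_mk, Ideal.Quotient.eq_zero_iff_mem,
    Algebra.smul_def]
  refine Ideal.mul_mem_right _ _ ?_
  rw [← Ideal.mem_comap, IsLocalRing.eq_maximalIdeal (Ideal.isMaximal_comap_of_isIntegral_of_isMaximal P)]
  exact hr

variable (Q : Ideal C) [Q.IsPrime]

theorem lengthA_quot_mul' (hQm : ¬ Q.IsMaximal) (hQ : ∀ P : Ideal C, P.IsPrime → Q ≤ P → P.IsMaximal ∨ P = Q)
    (r : C) (hr : r ∉ Q) (N : Type u) [AddCommGroup N] [Module C N] [Module.Finite C N] :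
    ∀ [Module A N] [IsScalarTower A C N], Q ≤ (Module.annihilator C N).radical →
      Module.length A (SopLenLib.mulKer r N) ≠ ⊤ ∧
        Module.length A (N ⧸ SopLenLib.mulRange r N) = Module.length A (SopLenLib.mulKer r N) +
          Module.length (Localization.AtPrime Q) (LocalizedModule Q.primeCompl N) *
            Module.length A (C ⧸ (Q ⊔ Ideal.span {r})) := by
  haveI : IsNoetherianRing C := IsNoetherianRing.of_finite A C
  induction (inferInstance : Module.Finite C N) using IsNoetherianRing.induction_on_isQuotientEquivQuotientPrime C with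
  | subsingleton N =>
    intro _ _ _
    refine ⟨by rw [Module.length_eq_zero]; exact ENat.zero_ne_top, ?_⟩
    rw [Module.length_eq_zero, Module.length_eq_zero, Module.length_eq_zero, zero_mul, add_zero]
  | quotient N P e =>
    intro _ _ hann
    have hann' : Module.annihilator C N = P.asIdeal := e.annihilator_eq.trans Ideal.annihilator_quotient
    rw [hann', P.isPrime.radical] at hann
    rcases hQ P.asIdeal P.isPrime hann with hPm | hPQ
    · haveI := hPm
      haveI : Subsingleton (LocalizedModule Q.primeCompl N) := by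
        obtain ⟨t, htP, htQ⟩ := SetLike.not_le_iff_exists.1 fun hle : P.asIdeal ≤ Q =>
          hQm ((le_antisymm hann hle) ▸ hPm)
        exact LocalizedModule.subsingleton_iff.2 fun z => ⟨t, htQ, Module.mem_annihilator.1 (hann' ▸ htP) z⟩
      rw [Module.length_eq_zero (M := LocalizedModule Q.primeCompl N), zero_mul, add_zero]
      have hN : Module.length A N ≠ ⊤ := by
        rw [(e.restrictScalars A).length_eq]; exact length_simple_ne_top (A := A) P.asIdeal
      refine ⟨ne_top_of_le_ne_top hN (Module.length_le_of_injective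
        ((SopLenLib.mulKer r N).subtype.restrictScalars A) Subtype.val_injective), ?_⟩
      by_cases hrP : r ∈ P.asIdeal
      · have h0 : ∀ z : N, r • z = 0 := Module.mem_annihilator.1 (hann' ▸ hrP)
        have hk : SopLenLib.mulKer r N = ⊤ := eq_top_iff.2 fun z _ => h0 z
        have hran : SopLenLib.mulRange r N = ⊥ := eq_bot_iff.2 (by rintro _ ⟨z, rfl⟩; exact h0 z)
        rw [((LinearEquiv.ofTop _ hk).restrictScalars A).length_eq,
          ((Submodule.quotEquivOfEqBot _ hran).restrictScalars A).length_eq]
      · obtain ⟨y, i, hi, hyi⟩ := hPm.exists_inv hrP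
        have hinv : ∀ z : N, y • r • z = z := fun z => by
          have h0 : i • z = 0 := Module.mem_annihilator.1 (hann' ▸ hi) z
          have h1 : (y * r + i) • z = z := by rw [hyi, one_smul]
          rwa [add_smul, h0, add_zero, mul_smul] at h1
        haveI : Subsingleton (SopLenLib.mulKer r N) := ⟨fun z z' => Subtype.ext (by
          rw [← hinv z.1, ← hinv z'.1, show r • z.1 = 0 from z.2, show r • z'.1 = 0 from z'.2])⟩
        haveI : Subsingleton (N ⧸ SopLenLib.mulRange r N) := Submodule.Quotient.subsingleton_iff.2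
          (eq_top_iff.2 fun z _ => ⟨y • z, by
            show r • y • z = z
            rw [smul_comm, hinv]⟩)
        rw [Module.length_eq_zero, Module.length_eq_zero]
    · have hrP : r ∉ P.asIdeal := hPQ ▸ hr
      haveI : Subsingleton (SopLenLib.mulKer r N) := ⟨fun z z' => Subtype.ext (by
        have key : ∀ w : SopLenLib.mulKer r N, (w : N) = 0 := fun w => by
          have hx' : r • e (w : N) = 0 := by rw [← map_smul, show r • (w : N) = 0 from w.2, map_zero]
          obtain ⟨a, ha⟩ := Submodule.Quotient.mk_surjective _ (e (w : N))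
          rw [← ha, ← Submodule.Quotient.mk_smul, Submodule.Quotient.mk_eq_zero, smul_eq_mul] at hx'
          rw [← e.map_eq_zero_iff, ← ha, Submodule.Quotient.mk_eq_zero]
          exact (P.isPrime.mem_or_mem hx').resolve_left hrP
        rw [key z, key z'])⟩
      refine ⟨by rw [Module.length_eq_zero]; exact ENat.zero_ne_top, ?_⟩
      rw [Module.length_eq_zero (M := SopLenLib.mulKer r N), zero_add]
      have hloc : Module.length (Localization.AtPrime Q) (LocalizedModule Q.primeCompl N) = 1 := by
        subst hPQ
        let eP := IsLocalizedModule.mapEquiv P.asIdeal.primeCompl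
          (LocalizedModule.mkLinearMap P.asIdeal.primeCompl N)
          (LocalizedModule.mkLinearMap P.asIdeal.primeCompl (C ⧸ P.asIdeal))
          (Localization.AtPrime P.asIdeal) e
        rw [eP.length_eq]
        refine le_antisymm (SopLenLib.length_residue_le_one P) ?_
        haveI : Nontrivial (LocalizedModule P.asIdeal.primeCompl (C ⧸ P.asIdeal)) :=
          Module.mem_support_iff.1 (Module.mem_support_iff_of_finite.2 (Ideal.annihilator_quotient).le)
        exact Order.one_le_iff_pos.2 Module.length_pos
      rw [hloc, one_mul]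
      let f : N →ₗ[C] C ⧸ (Q ⊔ Ideal.span {r}) :=
        (Submodule.factor (show P.asIdeal ≤ Q ⊔ Ideal.span {r} from hPQ.le.trans le_sup_left)) ∘ₗ e.toLinearMap
      have hf : Function.Surjective f :=
        (Submodule.factor_surjective (hPQ.le.trans le_sup_left : P.asIdeal ≤ Q ⊔ Ideal.span {r})).comp e.surjective
      have hk : LinearMap.ker f = SopLenLib.mulRange r N := by
        ext z
        obtain ⟨c, hc⟩ := Submodule.Quotient.mk_surjective _ (e z)
        have hfz : f z = Submodule.Quotient.mk c := by
          show Submodule.factor (hPQ.le.trans le_sup_left : P.asIdeal ≤ Q ⊔ Ideal.span {r}) (e z) = _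
          rw [← hc]; rfl
        rw [LinearMap.mem_ker, hfz, Submodule.Quotient.mk_eq_zero]
        constructor
        · intro hcm
          obtain ⟨p, hp, y, hy, rfl⟩ := Submodule.mem_sup.1 hcm
          obtain ⟨k, rfl⟩ := Ideal.mem_span_singleton'.1 hy
          refine ⟨e.symm (Submodule.Quotient.mk k), e.injective ?_⟩
          rw [LinearMap.lsmul_apply, map_smul, e.apply_symm_apply, ← hc, ← Submodule.Quotient.mk_smul,
            Submodule.Quotient.eq, smul_eq_mul]
          rw [show r * k - (p + k * r) = -p by ring]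
          exact neg_mem (hPQ ▸ hp)
        · rintro ⟨w, rfl⟩
          obtain ⟨d, hd⟩ := Submodule.Quotient.mk_surjective _ (e w)
          rw [LinearMap.lsmul_apply, map_smul, ← hd, ← Submodule.Quotient.mk_smul, Submodule.Quotient.eq,
            smul_eq_mul] at hc
          rw [show c = (c - r * d) + d * r by ring]
          exact Submodule.add_mem_sup (hPQ ▸ hc) (Ideal.mem_span_singleton'.2 ⟨d, rfl⟩)
      rw [← hk]
      exact ((f.quotKerEquivOfSurjective hf).restrictScalars A).length_eq
  | exact N1 N2 N3 f h hf hh hfh ih1 ih3 =>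
    intro _ _ hann
    letI : Module A N1 := Module.compHom N1 (algebraMap A C)
    haveI : IsScalarTower A C N1 := IsScalarTower.of_compHom A C N1
    letI : Module A N3 := Module.compHom N3 (algebraMap A C)
    haveI : IsScalarTower A C N3 := IsScalarTower.of_compHom A C N3
    obtain ⟨a1, a2⟩ := ih1 (hann.trans (Ideal.radical_mono (f.annihilator_le_of_injective hf)))
    obtain ⟨c1, c2⟩ := ih3 (hann.trans (Ideal.radical_mono (h.annihilator_le_of_surjective hh)))
    have hne : Module.length A (SopLenLib.mulKer r N1) + Module.length A (SopLenLib.mulKer r N3) ≠ ⊤ :=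
      WithTop.add_ne_top.2 ⟨a1, c1⟩
    refine ⟨?_, ?_⟩
    · let F1 : SopLenLib.mulKer r N1 →ₗ[C] SopLenLib.mulKer r N2 := f.restrict fun z hz => by
        simp only [LinearMap.mem_ker, LinearMap.lsmul_apply] at hz ⊢
        rw [← map_smul, hz, map_zero]
      let F2 : SopLenLib.mulKer r N2 →ₗ[C] SopLenLib.mulKer r N3 := h.restrict fun z hz => by
        simp only [LinearMap.mem_ker, LinearMap.lsmul_apply] at hz ⊢
        rw [← map_smul, hz, map_zero]
      have hex : Function.Exact F1 F2 := fun y => by
        constructor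
        · intro hy
          obtain ⟨a, ha⟩ := (hfh y.1).1 (congrArg Subtype.val hy)
          exact ⟨⟨a, LinearMap.mem_ker.2 (hf (by rw [LinearMap.lsmul_apply, map_smul, ha, map_zero]; exact y.2))⟩, Subtype.ext ha⟩
        · rintro ⟨z, rfl⟩
          exact Subtype.ext (hfh.apply_apply_eq_zero z.1)
      rw [lengthA_eq_range_add (A := A) hex]
      exact WithTop.add_ne_top.2 ⟨ne_top_of_le_ne_top a1 (Module.length_le_of_surjective
          (F1.rangeRestrict.restrictScalars A) F1.surjective_rangeRestrict),
        ne_top_of_le_ne_top c1 (Module.length_le_of_injective ((LinearMap.range F2).subtype.restrictScalars A)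
          Subtype.val_injective)⟩
    · refine (AddLECancellable.injective_left (ENat.addLECancellable_of_ne_top hne)) ?_
      show _ + _ = _ + _
      rw [lengthA_six (A := A) r f h hf hh hfh, a2, c2,
        Module.length_eq_add_of_exact (LocalizedModule.map Q.primeCompl f) (LocalizedModule.map Q.primeCompl h)
          (LocalizedModule.map_injective _ f hf) (LocalizedModule.map_surjective _ h hh)
          (LocalizedModule.map_exact _ f h hfh), add_mul]
      ac_rfl

/-- The colength of `r` on `C / P` for `P` the contraction of a regular principal ideal at `Q`. -/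
theorem length_quot_contraction (hQm : ¬ Q.IsMaximal)
    (hQ : ∀ P : Ideal C, P.IsPrime → Q ≤ P → P.IsMaximal ∨ P = Q) (π : Localization.AtPrime Q)
    (hπ : ∃ K : ℕ, maximalIdeal (Localization.AtPrime Q) ^ K ≤ Ideal.span {π}) (r : C) (hr : r ∉ Q) :
    Module.length A (C ⧸ ((Ideal.span {π}).comap (algebraMap C (Localization.AtPrime Q)) ⊔ Ideal.span {r})) =
      Ring.ord (Localization.AtPrime Q) π * Module.length A (C ⧸ (Q ⊔ Ideal.span {r})) := by
  let I : Ideal C := (Ideal.span {π}).comap (algebraMap C (Localization.AtPrime Q))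
  show Module.length A (C ⧸ (I ⊔ Ideal.span {r})) = _
  have hrad : Q ≤ (Module.annihilator C (C ⧸ I)).radical := fun x hx => by
    obtain ⟨K, hK⟩ := hπ
    refine ⟨K, ?_⟩
    rw [Ideal.annihilator_quotient]
    show algebraMap C (Localization.AtPrime Q) (x ^ K) ∈ Ideal.span {π}
    rw [map_pow]
    refine hK (Ideal.pow_mem_pow ?_ _)
    rw [← Localization.AtPrime.map_eq_maximalIdeal]
    exact Ideal.mem_map_of_mem _ hx
  haveI : Subsingleton (SopLenLib.mulKer r (C ⧸ I)) := ⟨fun z z' => Subtype.ext (by
    have key : ∀ w : SopLenLib.mulKer r (C ⧸ I), (w : C ⧸ I) = 0 := fun w => by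
      obtain ⟨a, ha⟩ := Submodule.Quotient.mk_surjective I (w : C ⧸ I)
      have hw : r • (w : C ⧸ I) = 0 := w.2
      rw [← ha, ← Submodule.Quotient.mk_smul, Submodule.Quotient.mk_eq_zero, smul_eq_mul] at hw
      rw [← ha, Submodule.Quotient.mk_eq_zero]
      have hw' : algebraMap C (Localization.AtPrime Q) (r * a) ∈ Ideal.span {π} := hw
      rw [map_mul] at hw'
      exact (Ideal.unit_mul_mem_iff_mem _
        (IsLocalization.map_units (Localization.AtPrime Q) (⟨r, hr⟩ : Q.primeCompl))).1 hw'
    rw [key z, key z'])⟩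
  obtain ⟨-, h⟩ := lengthA_quot_mul' (A := A) Q hQm hQ r hr (C ⧸ I) hrad
  rw [Module.length_eq_zero (M := SopLenLib.mulKer r (C ⧸ I)), zero_add] at h
  have hloc : Module.length (Localization.AtPrime Q) (LocalizedModule Q.primeCompl (C ⧸ I)) =
      Ring.ord (Localization.AtPrime Q) π := by
    let S := Q.primeCompl
    let L := Localization.AtPrime Q
    let f := Algebra.linearMap C L
    let P : Submodule L L := (I : Submodule C C).localized' L S f
    have hP : P = Ideal.span {π} :=
      (Ideal.localized'_eq_map L S _).trans (IsLocalization.map_comap S L _)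
    let g := (I : Submodule C C).toLocalizedQuotient' L S f
    exact (((IsLocalizedModule.iso S g).extendScalarsOfIsLocalization S L).trans
      (Submodule.quotEquivOfEq P _ hP)).length_eq
  rw [← hloc, ← h]
  let f : C →ₗ[C] (C ⧸ I) ⧸ SopLenLib.mulRange r (C ⧸ I) := (SopLenLib.mulRange r (C ⧸ I)).mkQ ∘ₗ I.mkQ
  have hf : Function.Surjective f := (Submodule.mkQ_surjective _).comp (Submodule.mkQ_surjective _)
  have hk : LinearMap.ker f = I ⊔ Ideal.span {r} := by
    ext c
    simp only [f, LinearMap.mem_ker, LinearMap.comp_apply, Submodule.mkQ_apply, Submodule.Quotient.mk_eq_zero]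
    constructor
    · rintro ⟨w, hw⟩
      obtain ⟨d, rfl⟩ := Submodule.Quotient.mk_surjective _ w
      rw [LinearMap.lsmul_apply, ← Submodule.Quotient.mk_smul, Submodule.Quotient.eq, smul_eq_mul] at hw
      rw [show c = -(r * d - c) + d * r by ring]
      exact Submodule.add_mem_sup (neg_mem hw) (Ideal.mem_span_singleton'.2 ⟨d, rfl⟩)
    · intro hcm
      obtain ⟨i, hi, y, hy, rfl⟩ := Submodule.mem_sup.1 hcm
      obtain ⟨k, rfl⟩ := Ideal.mem_span_singleton'.1 hy
      refine ⟨Submodule.Quotient.mk k, ?_⟩
      rw [LinearMap.lsmul_apply, ← Submodule.Quotient.mk_smul, Submodule.Quotient.eq, smul_eq_mul,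
        show r * k - (i + k * r) = -i by ring]
      exact neg_mem hi
  exact ((Submodule.quotEquivOfEq _ _ hk.symm).trans (f.quotKerEquivOfSurjective hf)).restrictScalars A |>.length_eq

end Groth.Agent.KeyLemmaLib
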