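import Groth.Agent.KeyLemmaLib.Colength

/-!
# Colengths on orders in a finite extension of the fraction field of a one-dimensional domain
-/

set_option autoImplicit false
set_option linter.style.haveILetI false
set_option linter.unusedSectionVars false
universe u

open IsLocalRing nonZeroDivisors

noncomputable section

namespace Groth.Agent.KeyLemmaLib

variable {A : Type u} [CommRing A] [IsNoetherianRing A] (q : Ideal A) [q.IsPrime] [Ring.KrullDimLE 1 (A ⧸ q)]

theorem ordFrac_mul {x y : q.ResidueField} (hx : x ≠ 0) (hy : y ≠ 0) :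
    CycAlg.ordFrac (A ⧸ q) q.ResidueField (x * y) =
      CycAlg.ordFrac (A ⧸ q) q.ResidueField x + CycAlg.ordFrac (A ⧸ q) q.ResidueField y := by
  obtain ⟨a₁, b₁, hb₁, rfl⟩ := IsFractionRing.div_surjective (A := A ⧸ q) x
  obtain ⟨a₂, b₂, hb₂, rfl⟩ := IsFractionRing.div_surjective (A := A ⧸ q) y
  have ha₁ : a₁ ≠ 0 := fun h => hx (by rw [h, map_zero, zero_div])
  have ha₂ : a₂ ≠ 0 := fun h => hy (by rw [h, map_zero, zero_div])
  have hb₁' := nonZeroDivisors.ne_zero hb₁
  have hb₂' := nonZeroDivisors.ne_zero hb₂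
  rw [div_mul_div_comm, ← map_mul, ← map_mul, OrdDet.ordFrac_div _ _ (mul_ne_zero ha₁ ha₂) (mul_ne_zero hb₁' hb₂'),
    OrdDet.ordFrac_div _ _ ha₁ hb₁', OrdDet.ordFrac_div _ _ ha₂ hb₂',
    Ring.ord_mul (A ⧸ q) (mem_nonZeroDivisors_of_ne_zero ha₂), Ring.ord_mul (A ⧸ q) (mem_nonZeroDivisors_of_ne_zero hb₂'),
    ENat.toNat_add (Ring.ord_ne_top (mem_nonZeroDivisors_of_ne_zero ha₁)) (Ring.ord_ne_top (mem_nonZeroDivisors_of_ne_zero ha₂)),
    ENat.toNat_add (Ring.ord_ne_top (mem_nonZeroDivisors_of_ne_zero hb₁')) (Ring.ord_ne_top (mem_nonZeroDivisors_of_ne_zero hb₂'))]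
  push_cast
  ring

theorem ordFrac_one : CycAlg.ordFrac (A ⧸ q) q.ResidueField 1 = 0 := by
  have := ordFrac_mul q (one_ne_zero (α := q.ResidueField)) one_ne_zero
  rw [mul_one] at this
  omega

theorem ordFrac_pow {x : q.ResidueField} (hx : x ≠ 0) (n : ℕ) :
    CycAlg.ordFrac (A ⧸ q) q.ResidueField (x ^ n) = n * CycAlg.ordFrac (A ⧸ q) q.ResidueField x := by
  induction n with
  | zero => simp [ordFrac_one]
  | succ n ih => rw [pow_succ, ordFrac_mul q (pow_ne_zero _ hx) hx, ih]; push_cast; ring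

theorem ordFrac_prod {ι : Type*} (s : Finset ι) (x : ι → q.ResidueField) (hx : ∀ i ∈ s, x i ≠ 0) :
    CycAlg.ordFrac (A ⧸ q) q.ResidueField (∏ i ∈ s, x i) = ∑ i ∈ s, CycAlg.ordFrac (A ⧸ q) q.ResidueField (x i) := by
  classical
  induction s using Finset.induction_on with
  | empty => simp [ordFrac_one]
  | insert i s his ih =>
    rw [Finset.prod_insert his, Finset.sum_insert his,
      ordFrac_mul q (hx i (Finset.mem_insert_self i s))
        (Finset.prod_ne_zero_iff.2 fun j hj => hx j (Finset.mem_insert_of_mem hj)),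
      ih fun j hj => hx j (Finset.mem_insert_of_mem hj)]

variable {C : Type u} [CommRing C] [Algebra A C] [Module.Finite A C] (Q : Ideal C)
variable {L : Type u} [Field L] [Algebra q.ResidueField L] [Module.Finite q.ResidueField L]
  [Algebra C L] [Algebra A L] [IsScalarTower A C L] [IsScalarTower A q.ResidueField L]

theorem length_eq_ordFrac_norm (hker : RingHom.ker (algebraMap C L) = Q)
    (hsurj : ∀ z : L, ∃ s : A, s ∉ q ∧ ∃ c : C, algebraMap A L s * z = algebraMap C L c)
    (r : C) (hr : r ∉ Q) :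
    Module.length A (C ⧸ (Q ⊔ Ideal.span {r})) ≠ ⊤ ∧
      ((Module.length A (C ⧸ (Q ⊔ Ideal.span {r}))).toNat : ℤ) =
        CycAlg.ordFrac (A ⧸ q) q.ResidueField (Algebra.norm q.ResidueField (algebraMap C L r)) := by
  letI : Algebra (A ⧸ q) L := ((algebraMap q.ResidueField L).comp (algebraMap (A ⧸ q) q.ResidueField)).toAlgebra
  haveI : IsScalarTower (A ⧸ q) q.ResidueField L := IsScalarTower.of_algebraMap_eq fun x => rfl
  haveI : IsScalarTower A (A ⧸ q) L := IsScalarTower.of_algebraMap_eq fun a => by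
    show _ = algebraMap q.ResidueField L (algebraMap (A ⧸ q) q.ResidueField (algebraMap A (A ⧸ q) a))
    rw [← IsScalarTower.algebraMap_apply A (A ⧸ q) q.ResidueField, ← IsScalarTower.algebraMap_apply]
  let g : C →ₐ[A] L := IsScalarTower.toAlgHom A C L
  let M : Submodule (A ⧸ q) L :=
    { carrier := Set.range g
      add_mem' := by rintro _ _ ⟨x, rfl⟩ ⟨y, rfl⟩; exact ⟨x + y, map_add g x y⟩
      zero_mem' := ⟨0, map_zero g⟩
      smul_mem' := by
        rintro c _ ⟨x, rfl⟩
        obtain ⟨a, rfl⟩ := Ideal.Quotient.mk_surjective c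
        refine ⟨a • x, ?_⟩
        rw [map_smul, ← Ideal.Quotient.algebraMap_eq, algebraMap_smul] }
  have hfg : M.FG := by
    obtain ⟨G, hG⟩ := Module.Finite.fg_top (R := A) (M := C)
    classical
    refine ⟨G.image g, le_antisymm (Submodule.span_le.2 ?_) ?_⟩
    · intro z hz
      obtain ⟨c, -, rfl⟩ := Finset.mem_image.1 (Finset.mem_coe.1 hz)
      exact ⟨c, rfl⟩
    · rintro _ ⟨c, rfl⟩
      have hc : c ∈ Submodule.span A (G : Set C) := hG ▸ trivial
      induction hc using Submodule.span_induction with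
      | mem y hy => exact Submodule.subset_span (Finset.mem_coe.2 (Finset.mem_image_of_mem _ hy))
      | zero => rw [map_zero]; exact zero_mem _
      | add y z _ _ hy hz => rw [map_add]; exact add_mem hy hz
      | smul a y _ hy => rw [map_smul]; exact Submodule.smul_of_tower_mem _ a hy
  have hspan : Submodule.span q.ResidueField (M : Set L) = ⊤ := by
    refine eq_top_iff.2 fun z _ => ?_
    obtain ⟨s, hs, c, hc⟩ := hsurj z
    have hs0 : algebraMap A q.ResidueField s ≠ 0 := by
      rwa [Ne, Ideal.algebraMap_residueField_eq_zero]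
    have h := Submodule.smul_mem _ (algebraMap A q.ResidueField s)⁻¹
      (Submodule.subset_span (R := q.ResidueField) (show g c ∈ (M : Set L) from ⟨c, rfl⟩))
    rwa [IsScalarTower.toAlgHom_apply, ← hc, IsScalarTower.algebraMap_apply A q.ResidueField L,
      ← Algebra.smul_def, inv_smul_smul₀ hs0] at h
  have hr0 : algebraMap C L r ≠ 0 := fun h => hr (hker ▸ h)
  let φ : L ≃ₗ[q.ResidueField] L := LinearEquiv.ofBijective (Algebra.lmul q.ResidueField L (algebraMap C L r))
    ⟨fun x y hxy => mul_left_cancel₀ hr0 hxy, fun x => ⟨(algebraMap C L r)⁻¹ * x, mul_inv_cancel_left₀ hr0 x⟩⟩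
  obtain ⟨-, h1, -, h3⟩ := OrdDet.latticeDist M hfg hspan φ
  set f := φ.toLinearMap.restrictScalars (A ⧸ q) with hf
  have hle : M.map f ≤ M := by
    rintro _ ⟨_, ⟨x, rfl⟩, rfl⟩
    exact ⟨r * x, map_mul g r x⟩
  rw [inf_eq_right.2 hle] at h1 h3
  rw [OrdDet.qlen_self, ENat.toNat_zero, Nat.cast_zero, sub_zero] at h3
  let T : Submodule (A ⧸ q) M := (M.map f).submoduleOf M
  let m : C →ₗ[A] M := g.toLinearMap.codRestrict (M.restrictScalars A) (fun c => ⟨c, rfl⟩)
  let F : C →ₗ[A] M ⧸ T := (T.mkQ.restrictScalars A) ∘ₗ m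
  have hF : Function.Surjective F := fun z => by
    obtain ⟨⟨_, ⟨c, rfl⟩⟩, rfl⟩ := Submodule.Quotient.mk_surjective _ z
    exact ⟨c, rfl⟩
  have hk : LinearMap.ker F = Submodule.restrictScalars A (Q ⊔ Ideal.span {r}) := by
    ext c
    rw [LinearMap.mem_ker]
    show Submodule.Quotient.mk _ = 0 ↔ _
    rw [Submodule.Quotient.mk_eq_zero]
    show algebraMap C L c ∈ M.map f ↔ c ∈ Q ⊔ Ideal.span {r}
    constructor
    · rintro ⟨_, ⟨x, rfl⟩, hx⟩
      have hx' : algebraMap C L r * algebraMap C L x = algebraMap C L c := hx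
      rw [show c = (c - r * x) + x * r by ring]
      refine Submodule.add_mem_sup ?_ (Ideal.mem_span_singleton'.2 ⟨x, rfl⟩)
      rw [← hker, RingHom.mem_ker, map_sub, map_mul, hx', sub_self]
    · intro hc
      obtain ⟨i, hi, y, hy, rfl⟩ := Submodule.mem_sup.1 hc
      obtain ⟨x, rfl⟩ := Ideal.mem_span_singleton'.1 hy
      refine ⟨g x, ⟨x, rfl⟩, ?_⟩
      rw [map_add, show algebraMap C L i = 0 from RingHom.mem_ker.1 (hker ▸ hi), zero_add, map_mul, mul_comm]
      rfl
  have hlen : Module.length A (C ⧸ (Q ⊔ Ideal.span {r})) = OrdDet.qlen M (M.map f) := by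
    rw [← (Submodule.Quotient.restrictScalarsEquiv A (Q ⊔ Ideal.span {r})).length_eq, ← hk,
      (F.quotKerEquivOfSurjective hF).length_eq]
    exact Module.length_eq_of_surjective (R := A ⧸ q) (S := A) Ideal.Quotient.mk_surjective
  rw [hlen, h3]
  exact ⟨h1.ne, rfl⟩

end Groth.Agent.KeyLemmaLib
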