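import Groth.Agent.KeyLemmaLib.Core
import Groth.Agent.KeyLemmaLib.ModLen
import Groth.Agent.KeyLemmaLib.Norm
import Groth.Agent.TameLib.Semilocal

/-!
# The local data at a prime of a glued extension
-/

set_option autoImplicit false
set_option linter.style.haveILetI false
set_option linter.unusedSectionVars false
universe u

open IsLocalRing nonZeroDivisors

noncomputable section

namespace Groth.Agent.KeyLemmaLib

theorem ordFrac_inv {A : Type u} [CommRing A] [IsNoetherianRing A] (q : Ideal A) [q.IsPrime]
    [Ring.KrullDimLE 1 (A ⧸ q)] {x : q.ResidueField} (hx : x ≠ 0) :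
    CycAlg.ordFrac (A ⧸ q) q.ResidueField x⁻¹ = -CycAlg.ordFrac (A ⧸ q) q.ResidueField x := by
  have := ordFrac_mul q hx (inv_ne_zero hx)
  rw [mul_inv_cancel₀ hx, ordFrac_one] at this
  omega

variable {A : Type u} [CommRing A] [IsLocalRing A] [IsNoetherianRing A]
  {C : Type u} [CommRing C] [Algebra A C] [Module.Finite A C] (q : Ideal A) [q.IsPrime]
  [Ring.KrullDimLE 1 (A ⧸ q)]
  {B : Type u} [CommRing B] [Algebra (Localization.AtPrime q) B] [Algebra A B]
  [IsScalarTower A (Localization.AtPrime q) B] [Module.Finite (Localization.AtPrime q) B]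
  (g : C →ₐ[A] B) (hker : ∀ x, g x = 0 → ∃ s ∉ q, algebraMap A C s * x = 0)
  (hsurj : ∀ z, ∃ s ∉ q, ∃ x, g x = algebraMap A B s * z)

/-- The prime of `C` below a maximal ideal of `B`. -/
abbrev lowPrime (n : MaximalSpectrum B) : Ideal C := n.asIdeal.comap g.toRingHom

instance lowPrime_isPrime (n : MaximalSpectrum B) : (lowPrime g n).IsPrime :=
  haveI := n.isMaximal
  Ideal.comap_isPrime g.toRingHom n.asIdeal

theorem comap_lowPrime (n : MaximalSpectrum B) : (lowPrime g n).comap (algebraMap A C) = q := by
  haveI := n.isMaximal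
  haveI : Algebra.IsIntegral (Localization.AtPrime q) B := Algebra.IsIntegral.of_finite _ _
  have h : (n.asIdeal.comap (algebraMap (Localization.AtPrime q) B)) = maximalIdeal (Localization.AtPrime q) :=
    IsLocalRing.eq_maximalIdeal (Ideal.isMaximal_comap_of_isIntegral_of_isMaximal n.asIdeal)
  rw [lowPrime, Ideal.comap_comap, show g.toRingHom.comp (algebraMap A C) = algebraMap A B from g.comp_algebraMap,
    IsScalarTower.algebraMap_eq A (Localization.AtPrime q) B, ← Ideal.comap_comap, h]
  exact Localization.AtPrime.under_maximalIdeal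

include hker hsurj

theorem isLocalization_glue :
    letI := g.toRingHom.toAlgebra
    IsLocalization (Algebra.algebraMapSubmonoid C q.primeCompl) B := by
  letI := g.toRingHom.toAlgebra
  refine ⟨?_, ?_, ?_⟩
  · rintro ⟨_, s, hs, rfl⟩
    show IsUnit (g (algebraMap A C s))
    rw [g.commutes, IsScalarTower.algebraMap_apply A (Localization.AtPrime q) B]
    exact (IsLocalization.map_units (Localization.AtPrime q) (⟨s, hs⟩ : q.primeCompl)).map _
  · intro z
    obtain ⟨s, hs, x, hx⟩ := hsurj z
    refine ⟨⟨x, ⟨_, s, hs, rfl⟩⟩, ?_⟩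
    show z * g (algebraMap A C s) = g x
    rw [g.commutes, hx, mul_comm]
  · intro x y hxy
    obtain ⟨s, hs, h0⟩ := hker (x - y) (by rw [map_sub]; exact sub_eq_zero.2 hxy)
    exact ⟨⟨_, s, hs, rfl⟩, sub_eq_zero.1 (by rw [← mul_sub]; exact h0)⟩

theorem exists_low (P : Ideal C) [P.IsPrime] (hP : P.comap (algebraMap A C) = q) :
    ∃ n : MaximalSpectrum B, lowPrime g n = P := by
  letI := g.toRingHom.toAlgebra
  haveI := isLocalization_glue q g hker hsurj
  have hdis : Disjoint (Algebra.algebraMapSubmonoid C q.primeCompl : Set C) (P : Set C) := by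
    rw [Set.disjoint_left]
    rintro _ ⟨s, hs, rfl⟩ h
    have : s ∈ P.comap (algebraMap A C) := h
    exact hs (hP ▸ this)
  haveI hp := IsLocalization.isPrime_of_isPrime_disjoint (Algebra.algebraMapSubmonoid C q.primeCompl) B P inferInstance hdis
  have hcomap := IsLocalization.comap_map_of_isPrime_disjoint (Algebra.algebraMapSubmonoid C q.primeCompl) B
    (show P.IsPrime from inferInstance) hdis
  haveI : Algebra.IsIntegral (Localization.AtPrime q) B := Algebra.IsIntegral.of_finite _ _
  have hmax : ((P.map (algebraMap C B)).comap (algebraMap (Localization.AtPrime q) B)).IsMaximal := by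
    have h1 : ((P.map (algebraMap C B)).comap (algebraMap (Localization.AtPrime q) B)).comap
        (algebraMap A (Localization.AtPrime q)) = q := by
      rw [Ideal.comap_comap, ← IsScalarTower.algebraMap_eq,
        show algebraMap A B = (algebraMap C B).comp (algebraMap A C) from g.comp_algebraMap.symm,
        ← Ideal.comap_comap]
      exact (congrArg (Ideal.comap (algebraMap A C)) hcomap).trans hP
    rw [← IsLocalization.map_comap q.primeCompl (Localization.AtPrime q)
      ((P.map (algebraMap C B)).comap (algebraMap (Localization.AtPrime q) B))]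
    show (Ideal.map _ (((P.map (algebraMap C B)).comap (algebraMap (Localization.AtPrime q) B)).comap
        (algebraMap A (Localization.AtPrime q)))).IsMaximal
    rw [h1, Localization.AtPrime.map_eq_maximalIdeal]
    infer_instance
  exact ⟨⟨P.map (algebraMap C B), Ideal.isMaximal_of_isIntegral_of_isMaximal_comap _ hmax⟩, hcomap⟩

theorem low_injective : Function.Injective (lowPrime g) := fun n n' h => by
  letI := g.toRingHom.toAlgebra
  haveI := isLocalization_glue q g hker hsurj
  refine MaximalSpectrum.ext ?_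
  rw [← IsLocalization.map_comap (Algebra.algebraMapSubmonoid C q.primeCompl) B n.asIdeal,
    ← IsLocalization.map_comap (Algebra.algebraMapSubmonoid C q.primeCompl) B n'.asIdeal]
  exact congrArg (Ideal.map (algebraMap C B)) h

theorem exists_equiv (n : MaximalSpectrum B) :
    ∃ ψ : Localization.AtPrime (lowPrime g n) ≃+* TameLib.Loc n,
      ∀ x : C, ψ (algebraMap C _ x) = algebraMap B (TameLib.Loc n) (g x) := by
  letI := g.toRingHom.toAlgebra
  haveI := isLocalization_glue q g hker hsurj
  haveI := n.isMaximal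
  haveI := IsLocalization.isLocalization_isLocalization_atPrime_isLocalization
    (Algebra.algebraMapSubmonoid C q.primeCompl) (TameLib.Loc n) n.asIdeal
  haveI : IsLocalization (lowPrime g n).primeCompl (TameLib.Loc n) := this
  refine ⟨(IsLocalization.algEquiv (lowPrime g n).primeCompl (Localization.AtPrime (lowPrime g n))
    (TameLib.Loc n)).toRingEquiv, fun x => ?_⟩
  refine (AlgEquiv.commutes _ _).trans ?_
  rw [IsScalarTower.algebraMap_apply C B (TameLib.Loc n)]
  rfl

/-- The logarithmic norm at a maximal ideal. -/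
def lnorm (n : MaximalSpectrum B) (x : ResidueField (TameLib.Loc n)) : ℤ :=
  haveI := TameLib.isLocalHom_loc (Localization.AtPrime q) n
  CycAlg.ordFrac (A ⧸ q) q.ResidueField (Algebra.norm q.ResidueField x)

omit hker hsurj in
theorem norm_ne_zero' (n : MaximalSpectrum B) {x : ResidueField (TameLib.Loc n)} (hx : x ≠ 0) :
    haveI := TameLib.isLocalHom_loc (Localization.AtPrime q) n
    Algebra.norm q.ResidueField x ≠ 0 := by
  haveI := TameLib.isLocalHom_loc (Localization.AtPrime q) n
  haveI : Module.Finite q.ResidueField (ResidueField (TameLib.Loc n)) :=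
    TameLib.finite_residueField (Localization.AtPrime q) n
  exact Algebra.norm_ne_zero_iff.2 hx

omit hker hsurj in
theorem ordFrac_norm_zed (n : MaximalSpectrum B) (u v : (TameLib.Loc n)ˣ) (e f : ℕ) :
    haveI := TameLib.isLocalHom_loc (Localization.AtPrime q) n
    TameLib.normF (Localization.AtPrime q) n u v e f ≠ 0 ∧
    CycAlg.ordFrac (A ⧸ q) q.ResidueField (TameLib.normF (Localization.AtPrime q) n u v e f) =
      (f : ℤ) * lnorm q n (residue _ (u : TameLib.Loc n)) - (e : ℤ) * lnorm q n (residue _ (v : TameLib.Loc n)) := by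
  haveI := TameLib.isLocalHom_loc (Localization.AtPrime q) n
  haveI : Module.Finite q.ResidueField (ResidueField (TameLib.Loc n)) :=
    TameLib.finite_residueField (Localization.AtPrime q) n
  have hu := norm_ne_zero' q n ((residue_ne_zero_iff_isUnit _).2 u.isUnit)
  have hv := norm_ne_zero' q n ((residue_ne_zero_iff_isUnit _).2 v.isUnit)
  have hm := norm_ne_zero' q n (neg_ne_zero.2 (one_ne_zero (α := ResidueField (TameLib.Loc n))))
  have h1 : CycAlg.ordFrac (A ⧸ q) q.ResidueField
      (Algebra.norm q.ResidueField (-1 : ResidueField (TameLib.Loc n))) = 0 := by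
    have := ordFrac_mul q hm hm
    rw [← map_mul, neg_mul_neg, one_mul, map_one, ordFrac_one] at this
    omega
  have hz : TameLib.normF (Localization.AtPrime q) n u v e f =
      (Algebra.norm q.ResidueField (-1 : ResidueField (TameLib.Loc n))) ^ (e * f) *
        Algebra.norm q.ResidueField (residue _ (u : TameLib.Loc n)) ^ f *
        (Algebra.norm q.ResidueField (residue _ (v : TameLib.Loc n)) ^ e)⁻¹ := by
    show Algebra.norm q.ResidueField (TameLib.zed u v e f) = _
    rw [TameLib.zed_eq, map_mul, map_mul, map_pow, map_pow]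
    congr 1
    refine eq_inv_of_mul_eq_one_left ?_
    rw [← map_pow (Algebra.norm q.ResidueField), ← map_mul, inv_mul_cancel₀ (pow_ne_zero _ ((residue_ne_zero_iff_isUnit _).2 v.isUnit)), map_one]
  rw [hz]
  refine ⟨mul_ne_zero (mul_ne_zero (pow_ne_zero _ hm) (pow_ne_zero _ hu)) (inv_ne_zero (pow_ne_zero _ hv)), ?_⟩
  rw [ordFrac_mul q (mul_ne_zero (pow_ne_zero _ hm) (pow_ne_zero _ hu)) (inv_ne_zero (pow_ne_zero _ hv)),
    ordFrac_mul q (pow_ne_zero _ hm) (pow_ne_zero _ hu), ordFrac_pow q hm, ordFrac_pow q hu,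
    ordFrac_inv q (pow_ne_zero _ hv), ordFrac_pow q hv, h1, lnorm, lnorm]
  ring

theorem lnorm_len (n : MaximalSpectrum B) (hqm : ¬ q.IsMaximal)
    (π : TameLib.Loc n) (hπ : π ∈ (TameLib.Loc n)⁰) [IsNoetherianRing B] [Ring.KrullDimLE 1 (TameLib.Loc n)]
    (ψ : Localization.AtPrime (lowPrime g n) ≃+* TameLib.Loc n)
    (hψ : ∀ x : C, ψ (algebraMap C _ x) = algebraMap B (TameLib.Loc n) (g x))
    (r : C) (hr : r ∉ lowPrime g n) :
    Module.length A (C ⧸ ((Ideal.span {ψ.symm π}).comap (algebraMap C _) ⊔ Ideal.span {r})) ≠ ⊤ ∧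
      ((Ring.ord (TameLib.Loc n) π).toNat : ℤ) * lnorm q n (residue _ (algebraMap B (TameLib.Loc n) (g r))) =
        ((Module.length A (C ⧸ ((Ideal.span {ψ.symm π}).comap
          (algebraMap C (Localization.AtPrime (lowPrime g n))) ⊔ Ideal.span {r}))).toNat : ℤ) := by
  let R := Localization.AtPrime q
  let Q := lowPrime g n
  haveI := TameLib.isLocalHom_loc R n
  haveI : IsNoetherianRing (TameLib.Loc n) := IsLocalization.isNoetherianRing n.asIdeal.primeCompl _ inferInstance
  haveI : Algebra.IsIntegral A C := Algebra.IsIntegral.of_finite A C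
  have hQq : Q.comap (algebraMap A C) = q := comap_lowPrime q g n
  have hQm : ¬ Q.IsMaximal := fun h => by
    haveI := h
    exact hqm (hQq ▸ Ideal.isMaximal_comap_of_isIntegral_of_isMaximal Q)
  have hQabove : ∀ P : Ideal C, P.IsPrime → Q ≤ P → P.IsMaximal ∨ P = Q := fun P hP hle => by
    rcases hle.lt_or_eq with hlt | heq
    · left
      have hlt' := Ideal.IsIntegral.comap_lt_comap (R := A) (A := C) hlt
      rw [hQq] at hlt'
      haveI : (P.comap (algebraMap A C)).IsPrime := Ideal.comap_isPrime _ _
      have hmax : ((P.comap (algebraMap A C)).map (Ideal.Quotient.mk q)).IsMaximal := by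
        haveI hp' : ((P.comap (algebraMap A C)).map (Ideal.Quotient.mk q)).IsPrime :=
          Ideal.map_isPrime_of_surjective Ideal.Quotient.mk_surjective (by rw [Ideal.mk_ker]; exact hlt'.le)
        refine Ring.krullDimLE_one_iff_of_noZeroDivisors.1 inferInstance _ (fun h0 => ?_) hp'
        rw [Ideal.map_eq_bot_iff_le_ker, Ideal.mk_ker] at h0
        exact hlt'.not_ge h0
      have : (P.comap (algebraMap A C)).IsMaximal := by
        have h := Ideal.comap_isMaximal_of_surjective (Ideal.Quotient.mk q) Ideal.Quotient.mk_surjective (H := hmax)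
        rwa [Ideal.comap_map_mk hlt'.le] at h
      exact Ideal.isMaximal_of_isIntegral_of_isMaximal_comap P this
    · exact Or.inr heq.symm
  have hπ' : ∃ K : ℕ, maximalIdeal (Localization.AtPrime Q) ^ K ≤ Ideal.span {ψ.symm π} := by
    haveI : IsArtinianRing (TameLib.Loc n ⧸ Ideal.span {π}) := by
      have := isFiniteLength_quotient_span_singleton (R := TameLib.Loc n) hπ
      rw [isFiniteLength_iff_isNoetherian_isArtinian] at this
      exact isArtinian_of_tower (TameLib.Loc n) this.2
    obtain ⟨K, hK⟩ := exists_maximalIdeal_pow_le_of_isArtinianRing_quotient (Ideal.span {π})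
    refine ⟨K, fun x hx => ?_⟩
    have hmap : (maximalIdeal (Localization.AtPrime Q)).map ψ.toRingHom ≤ maximalIdeal (TameLib.Loc n) :=
      Ideal.map_le_iff_le_comap.2 fun y hy hu => hy (by simpa using hu.map ψ.symm)
    have h1 : ψ x ∈ Ideal.span {π} := hK (Ideal.pow_right_mono hmap K (by
      rw [← Ideal.map_pow]; exact Ideal.mem_map_of_mem ψ.toRingHom hx))
    obtain ⟨c, hc⟩ := Ideal.mem_span_singleton'.1 h1
    exact Ideal.mem_span_singleton'.2 ⟨ψ.symm c, by rw [← map_mul, hc, ψ.symm_apply_apply]⟩
  rw [length_quot_contraction (A := A) Q hQm hQabove (ψ.symm π) hπ' r hr, TameLib.ord_ringEquiv]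
  let L := ResidueField (TameLib.Loc n)
  letI algCL : Algebra C L := ((residue (TameLib.Loc n)).comp ((algebraMap B (TameLib.Loc n)).comp g.toRingHom)).toAlgebra
  haveI : IsScalarTower A C L := IsScalarTower.of_algebraMap_eq fun a => by
    show algebraMap A L a = residue _ (algebraMap B _ (g (algebraMap A C a)))
    rw [g.commutes, ← IsScalarTower.algebraMap_apply A B (TameLib.Loc n)]
    rfl
  haveI : IsScalarTower A R (TameLib.Loc n) := IsScalarTower.to₁₂₄ A R B (TameLib.Loc n)
  haveI : IsScalarTower A q.ResidueField L := IsScalarTower.of_algebraMap_eq fun a => by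
    show algebraMap A L a = algebraMap (ResidueField R) L (residue R (algebraMap A R a))
    rw [ResidueField.algebraMap_residue, ← IsScalarTower.algebraMap_apply A R (TameLib.Loc n)]
    rfl
  haveI : Module.Finite q.ResidueField L := TameLib.finite_residueField R n
  have hkerL : RingHom.ker (algebraMap C L) = Q := by
    ext x
    rw [RingHom.mem_ker]
    show residue _ (algebraMap B _ (g x)) = 0 ↔ g x ∈ n.asIdeal
    rw [residue_eq_zero_iff]
    exact IsLocalization.AtPrime.to_map_mem_maximal_iff (TameLib.Loc n) n.asIdeal (g x)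
  have hsurjL : ∀ z : L, ∃ s : A, s ∉ q ∧ ∃ c : C, algebraMap A L s * z = algebraMap C L c := fun z => by
    obtain ⟨b, rfl⟩ := Ideal.algebraMap_residueField_surjective n.asIdeal z
    obtain ⟨s, hs, x, hx⟩ := hsurj b
    refine ⟨s, hs, x, ?_⟩
    show _ = residue _ (algebraMap B _ (g x))
    rw [hx, map_mul, map_mul, ← IsScalarTower.algebraMap_apply A B (TameLib.Loc n)]
    rfl
  obtain ⟨h1, h2⟩ := length_eq_ordFrac_norm q Q hkerL hsurjL r hr
  refine ⟨WithTop.mul_ne_top (Ring.ord_ne_top hπ) h1, ?_⟩
  rw [ENat.toNat_mul, Nat.cast_mul, h2]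
  rfl

end Groth.Agent.KeyLemmaLib
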