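import Mathlib

/-!
# Potentials on `ι → ℕ`
-/

set_option autoImplicit false

noncomputable section

namespace Groth.Agent.KeyLemmaLib

variable {ι : Type*} [DecidableEq ι] [Fintype ι] {M : Type*} [AddCommGroup M]

/-- A unit vector. -/
abbrev bump (i : ι) : ι → ℕ := Pi.single i 1

theorem sum_bump (i : ι) (D : ι → ℕ) : ∑ k, (D + bump i) k = ∑ k, D k + 1 := by
  simp [Finset.sum_add_distrib, bump]

theorem exists_eq_add_bump {D : ι → ℕ} {i : ι} (h : D i ≠ 0) : ∃ D', D = D' + bump i := by
  refine ⟨D - bump i, funext fun k => ?_⟩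
  simp only [Pi.add_apply, Pi.sub_apply, bump]
  rcases eq_or_ne k i with rfl | hk
  · rw [Pi.single_eq_same]; omega
  · rw [Pi.single_eq_of_ne hk]; omega

/-- Induction by adding unit vectors. -/
theorem bump_induction {P : (ι → ℕ) → Prop} (h0 : P 0) (hs : ∀ D i, P D → P (D + bump i))
    (D : ι → ℕ) : P D := by
  induction hn : ∑ k, D k generalizing D with
  | zero =>
    have : D = 0 := funext fun k => by
      simpa using (Finset.sum_eq_zero_iff.1 hn) k (Finset.mem_univ k)
    exact this ▸ h0
  | succ n ih =>
    obtain ⟨i, hi⟩ : ∃ i, D i ≠ 0 := by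
      by_contra! hall
      simp [hall] at hn
    obtain ⟨D', rfl⟩ := exists_eq_add_bump hi
    rw [sum_bump] at hn
    exact hs D' i (ih D' (by omega))

/-- A family satisfying the square relation has a potential. -/
theorem exists_potential (lam : ι → (ι → ℕ) → M)
    (h : ∀ i j D, i ≠ j → lam i D + lam j (D + bump i) = lam j D + lam i (D + bump j)) :
    ∃ Φ : (ι → ℕ) → M, ∀ i D, Φ (D + bump i) = Φ D + lam i D := by
  have hlt : ∀ {D : ι → ℕ} (h : ∃ i, D i ≠ 0),
      ∑ k, (Classical.choose (exists_eq_add_bump (Classical.choose_spec h))) k < ∑ k, D k := fun {D} h => by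
    conv_rhs => rw [Classical.choose_spec (exists_eq_add_bump (Classical.choose_spec h))]
    rw [sum_bump]
    omega
  classical
  let Φ : (ι → ℕ) → M := (InvImage.wf (fun D : ι → ℕ => ∑ k, D k) wellFounded_lt).fix fun D rec =>
    if h : ∃ i, D i ≠ 0 then
      rec _ (hlt h) + lam (Classical.choose h) (Classical.choose (exists_eq_add_bump (Classical.choose_spec h)))
    else 0
  refine ⟨Φ, ?_⟩
  suffices H : ∀ n D i, ∑ k, D k = n → Φ (D + bump i) = Φ D + lam i D from fun i D => H _ D i rfl
  intro n
  induction n using Nat.strong_induction_on with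
  | _ n ih =>
    intro D i hn
    have hne : ∃ k, (D + bump i) k ≠ 0 := ⟨i, by simp [bump]⟩
    have hdef : Φ (D + bump i) = Φ (Classical.choose (exists_eq_add_bump (Classical.choose_spec hne))) +
        lam (Classical.choose hne) (Classical.choose (exists_eq_add_bump (Classical.choose_spec hne))) := by
      show WellFounded.fix _ _ _ = _
      rw [WellFounded.fix_eq, dif_pos hne]
    have hm := Classical.choose_spec (exists_eq_add_bump (Classical.choose_spec hne))
    rw [hdef]
    generalize Classical.choose (exists_eq_add_bump (Classical.choose_spec hne)) = D' at hm ⊢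
    generalize Classical.choose hne = m at hm ⊢
    rcases eq_or_ne m i with rfl | hmi
    · rw [add_right_cancel hm]
    · have h1 : D' i ≠ 0 := fun h0 => by
        have := congrFun hm i
        simp [bump, Pi.single_eq_of_ne' hmi, h0] at this
      obtain ⟨E, rfl⟩ := exists_eq_add_bump h1
      have hD : D = E + bump m := add_right_cancel (by rw [hm, add_right_comm])
      subst hD
      rw [sum_bump] at hn
      rw [ih _ (by omega) E i rfl, ih _ (by omega) E m rfl, add_assoc, add_assoc,
        h i m E (Ne.symm hmi)]

end Groth.Agent.KeyLemmaLib
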